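import Cfsg.Agent.Lib.Leech.Count

/-!
Shapes of the vectors of sum of squares 48.
-/

set_option autoImplicit false
set_option maxRecDepth 10000

namespace Cfsg.Agent.Leech.Shapes

open Cfsg Cfsg.Agent.Leech.Basic Cfsg.Agent.Leech.Count Finset

theorem count_all {N : ℕ} (hN : N ≤ 64) :
    {x : GolayPt → ℤ | x ∈ leechLattice ∧ sqNorm x = N}.ncard = totalCount (fun _ => true) N := by
  rw [← count_vectors _ hN]
  refine congrArg Set.ncard (Set.ext fun x => ?_)
  simp

theorem finite_norm {N : ℕ} (hN : N ≤ 64) :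
    {x : GolayPt → ℤ | x ∈ leechLattice ∧ sqNorm x = N}.Finite := by
  refine Set.Finite.subset (Fintype.piFinset fun _ : GolayPt => Finset.Icc (-8 : ℤ) 8).finite_toSet ?_
  intro x hx
  rw [mem_coe, Fintype.mem_piFinset]
  intro i
  have h1 : x i ^ 2 ≤ sqNorm x :=
    single_le_sum (f := fun i => x i ^ 2) (fun j _ => sq_nonneg (x j)) (mem_univ i)
  rw [hx.2] at h1
  have : (N : ℤ) ≤ 64 := by exact_mod_cast hN
  rw [Finset.mem_Icc]
  constructor <;> nlinarith

theorem abs_le_six {x : GolayPt → ℤ} (h : sqNorm x = 48) (i : GolayPt) : |x i| ≤ 6 := by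
  have h1 : x i ^ 2 ≤ sqNorm x :=
    single_le_sum (f := fun i => x i ^ 2) (fun j _ => sq_nonneg (x j)) (mem_univ i)
  rw [h] at h1
  rw [abs_le]
  constructor <;> nlinarith

theorem three_threes {x : GolayPt → ℤ} (hx : x ∈ leechLattice) (h : sqNorm x = 48) :
    (∃ i j k, i ≠ j ∧ j ≠ k ∧ i ≠ k ∧ |x i| = 3 ∧ |x j| = 3 ∧ |x k| = 3) ↔
      ∀ i, (fun a : ℤ => a.natAbs == 1 || a.natAbs == 3) (x i) = true := by
  obtain ⟨m, c, y, hm, -, hxi, -⟩ := mem_lattice_iff.1 hx
  simp only [Bool.or_eq_true, beq_iff_eq]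
  constructor
  · rintro ⟨i, j, k, hij, hjk, hik, hi, hj, hk⟩ l
    have hm1 : m = 1 := by
      have := hxi i
      rcases abs_eq (by norm_num : (0 : ℤ) ≤ 3) |>.1 hi with e | e <;> omega
    have hodd := hxi l
    have h6 := abs_le.1 (abs_le_six h l)
    by_contra hne
    push Not at hne
    have h5 : 25 ≤ x l ^ 2 := by
      have : x l ≤ -5 ∨ 5 ≤ x l := by omega
      rcases this with e | e <;> nlinarith
    have hli : ∀ {a}, |x a| = 3 → l ≠ a := fun {a} ha e => by
      subst e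
      rcases abs_eq (by norm_num : (0 : ℤ) ≤ 3) |>.1 ha with e | e <;> omega
    have hsub := sum_le_univ_sum_of_nonneg (f := fun i => x i ^ 2) (fun i => sq_nonneg (x i))
      (s := ({i, j, k, l} : Finset GolayPt))
    change _ ≤ sqNorm x at hsub
    rw [sum_insert (by simp [hij, hik, Ne.symm (hli hi)]),
      sum_insert (by simp [hjk, Ne.symm (hli hj)]), sum_insert (by simp [Ne.symm (hli hk)]),
      sum_singleton] at hsub
    have e : ∀ {a}, |x a| = 3 → x a ^ 2 = 9 := fun {a} ha => by rw [← sq_abs, ha]; norm_num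
    rw [e hi, e hj, e hk, h] at hsub
    omega
  · intro hall
    have hsq : ∀ i, x i ^ 2 = 1 + 8 * (if |x i| = 3 then (1 : ℤ) else 0) := fun i => by
      rcases hall i with e | e
      · rcases Int.natAbs_eq_iff.1 e with e | e <;> simp [e]
      · rcases Int.natAbs_eq_iff.1 e with e | e <;> simp [e]
    have hsum : sqNorm x = 24 + 8 * ((univ.filter fun i => |x i| = 3).card : ℤ) := by
      unfold sqNorm
      rw [sum_congr rfl fun i _ => hsq i, sum_add_distrib, ← mul_sum, sum_boole, sum_const, card_univ,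
        show Fintype.card GolayPt = 24 by decide]
      simp
    rw [h] at hsum
    obtain ⟨i, j, k, hij, hik, hjk, e⟩ := card_eq_three.1 (by omega : (univ.filter fun i => |x i| = 3).card = 3)
    refine ⟨i, j, k, hij, hjk, hik, ?_, ?_, ?_⟩ <;>
      exact (mem_filter.1 (by rw [e]; simp : _ ∈ univ.filter fun i => |x i| = 3)).2

theorem ncard_exists_abs (b : ℕ) :
    {x : GolayPt → ℤ | x ∈ leechLattice ∧ sqNorm x = 48 ∧ ∃ i, |x i| = b}.ncard =
      totalCount (fun _ => true) 48 - totalCount (fun a => a.natAbs != b) 48 := by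
  rw [← count_all (N := 48) (by norm_num), ← count_vectors _ (N := 48) (by norm_num)]
  simp only [Nat.cast_ofNat]
  have hsub : {x : GolayPt → ℤ | x ∈ leechLattice ∧ sqNorm x = 48 ∧
      ∀ i, (fun a : ℤ => a.natAbs != b) (x i) = true} ⊆
      {x : GolayPt → ℤ | x ∈ leechLattice ∧ sqNorm x = 48} := fun x hx => ⟨hx.1, hx.2.1⟩
  rw [← Set.ncard_sdiff hsub ((finite_norm (N := 48) (by norm_num)).subset hsub)]
  refine congrArg Set.ncard (Set.ext fun x => ?_)
  simp only [Set.mem_ofPred_eq, Set.mem_sdiff, bne_iff_ne]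
  constructor
  · rintro ⟨h1, h2, i, hi⟩
    exact ⟨⟨h1, h2⟩, fun h => h.2.2 i (by rw [Int.abs_eq_natAbs] at hi; exact_mod_cast hi)⟩
  · rintro ⟨⟨h1, h2⟩, h⟩
    refine ⟨h1, h2, ?_⟩
    by_contra hne
    push Not at hne
    exact h ⟨h1, h2, fun i hi => hne i (by rw [Int.abs_eq_natAbs, hi])⟩

end Cfsg.Agent.Leech.Shapes
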