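import Cfsg.Agent.Lib.Leech.Basic

/-!
The index of the lattice in `ℤ^24` is `2^36`.
-/

set_option autoImplicit false

namespace Cfsg.Agent.Leech.Index

open Cfsg Cfsg.Agent.Golay.Basic Cfsg.Agent.Golay.Design Cfsg.Agent.Leech.Basic Finset

/-- Integer vectors on the 24 points. -/
abbrev Vec : Type := GolayPt → ℤ

/-- Reduction modulo two. -/
def redHom : Vec →+ (GolayPt → ZMod 2) where
  toFun x i := (x i : ZMod 2)
  map_zero' := by funext i; simp
  map_add' x y := by funext i; simp

/-- Doubling. -/
def dblHom : Vec →+ Vec where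
  toFun x i := 2 * x i
  map_zero' := by funext i; simp
  map_add' x y := by funext i; simp [mul_add]

/-- The coordinate sum modulo four. -/
def sumHom : Vec →+ ZMod 4 where
  toFun x := ((∑ i, x i : ℤ) : ZMod 4)
  map_zero' := by simp
  map_add' x y := by simp [sum_add_distrib]

/-- The parity at the extra point. -/
def parHom : Vec →+ ZMod 2 where
  toFun x := (x none : ZMod 2)
  map_zero' := by simp
  map_add' x y := by simp

theorem redHom_surjective : Function.Surjective redHom := fun w =>
  ⟨fun i => ((w i).val : ℤ), by funext i; simp [redHom]⟩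

theorem two_pow_card : Nat.card (GolayPt → ZMod 2) = 2 ^ 24 := by
  simp [Nat.card_eq_fintype_card]

theorem code_index : (golayCode.toAddSubgroup).index = 2 ^ 12 := by
  have h := AddSubgroup.card_mul_index golayCode.toAddSubgroup
  have hc : Nat.card golayCode.toAddSubgroup = 2 ^ 12 := by
    have h3 := Module.natCard_eq_pow_finrank (K := ZMod 2) (V := golayCode)
    rw [finrank_golayCode, Nat.card_zmod] at h3
    exact h3
  rw [hc, two_pow_card] at h
  exact Nat.eq_of_mul_eq_mul_left (by norm_num : 0 < 2 ^ 12) (h.trans (by norm_num))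

/-- Halves of the even lattice vectors. -/
def halves : AddSubgroup Vec := golayCode.toAddSubgroup.comap redHom ⊓ sumHom.ker

theorem relIndex_ker' {G H : Type*} [AddGroup G] [AddGroup H] (f : G →+ H) (K : AddSubgroup G) :
    f.ker.relIndex K = Nat.card (K.map f) := by
  rw [AddSubgroup.relIndex_ker]

theorem halves_index : halves.index = 2 ^ 13 := by
  set P := golayCode.toAddSubgroup.comap redHom
  have hP : P.index = 2 ^ 12 := by
    rw [AddSubgroup.index_comap_of_surjective _ redHom_surjective, code_index]
  have hrel : halves.relIndex P = 2 := by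
    rw [halves, inf_comm, AddSubgroup.inf_relIndex_right, relIndex_ker']
    have himg : (P.map sumHom : Set (ZMod 4)) = {0, 2} := by
      ext z
      constructor
      · rintro ⟨x, hx, rfl⟩
        have hcard : 4 ∣ (support₂ (redHom x)).card := four_dvd_card ⟨_, hx, rfl⟩
        have hsum : ((∑ i, x i : ℤ) : ZMod 2) = 0 := by
          push_cast
          have : ∑ i, (x i : ZMod 2) = ∑ i, word (support₂ (redHom x)) i :=
            Finset.sum_congr rfl fun i _ => (congrFun (word_support₂ (redHom x)) i).symm
          rw [this]
          simp only [word, Finset.sum_boole, Finset.filter_univ_mem]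
          rw [ZMod.natCast_eq_zero_iff_even]
          exact even_iff_two_dvd.2 ((by norm_num : 2 ∣ 4).trans hcard)
        rw [ZMod.intCast_zmod_eq_zero_iff_dvd] at hsum
        obtain ⟨k, hk⟩ := hsum
        show ((∑ i, x i : ℤ) : ZMod 4) ∈ ({0, 2} : Set (ZMod 4))
        rw [hk]
        push_cast
        have : ∀ z : ZMod 4, 2 * z ∈ ({0, 2} : Set (ZMod 4)) := by decide
        exact this _
      · rintro (rfl | rfl)
        · exact ⟨0, zero_mem _, map_zero _⟩
        · refine ⟨Pi.single none 2, ?_, ?_⟩
          · show redHom (Pi.single none 2) ∈ golayCode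
            rw [show redHom (Pi.single none 2) = 0 from funext fun i => by
              by_cases h : i = none <;> simp [redHom, Pi.single_apply, h] <;> decide]
            exact zero_mem _
          · show ((∑ i, (Pi.single none 2 : Vec) i : ℤ) : ZMod 4) = 2
            simp
    show Nat.card (P.map sumHom : Set (ZMod 4)) = 2
    rw [Nat.card_coe_set_eq, himg, Set.ncard_pair (by decide)]
  have h : halves.relIndex P * P.index = halves.index :=
    AddSubgroup.relIndex_mul_index (inf_le_left : halves ≤ P)
  rw [hrel, hP] at h
  rw [← h]; norm_num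

theorem dbl_range_index : dblHom.range.index = 2 ^ 24 := by
  have : dblHom.range = redHom.ker := by
    ext x
    constructor
    · rintro ⟨y, rfl⟩
      funext i
      show ((2 * y i : ℤ) : ZMod 2) = 0
      rw [ZMod.intCast_zmod_eq_zero_iff_dvd]; exact dvd_mul_right _ _
    · intro hx
      refine ⟨fun i => x i / 2, funext fun i => ?_⟩
      have : (x i : ZMod 2) = 0 := congrFun hx i
      rw [ZMod.intCast_zmod_eq_zero_iff_dvd] at this
      show 2 * (x i / 2) = x i
      omega
  rw [this, AddSubgroup.index_ker, ← two_pow_card]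
  rw [AddMonoidHom.range_eq_top.2 redHom_surjective]
  exact AddSubgroup.card_top

theorem dblHom_injective : Function.Injective dblHom := fun x y h => funext fun i => by
  have := congrFun h i
  simp only [dblHom, AddMonoidHom.coe_mk, ZeroHom.coe_mk] at this
  omega

/-- The lattice vectors with even coordinates. -/
theorem map_dbl_halves : halves.map dblHom = leechLattice ⊓ parHom.ker := by
  ext x
  constructor
  · rintro ⟨z, ⟨hz, hsum⟩, rfl⟩
    refine ⟨mem_lattice_iff.2 ⟨0, support₂ (redHom z), fun i => (z i - ind (support₂ (redHom z)) i) / 2,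
      Or.inl rfl, ⟨_, hz, rfl⟩, fun i => ?_, ?_⟩, ?_⟩
    · have hi : i ∈ support₂ (redHom z) ↔ ¬ (2 : ℤ) ∣ z i := by
        rw [mem_support₂]
        exact not_congr (ZMod.intCast_zmod_eq_zero_iff_dvd (z i) 2)
      show 2 * z i = _
      show _ = 0 + 2 * ind (support₂ (redHom z)) i + 4 * ((z i - ind (support₂ (redHom z)) i) / 2)
      unfold ind
      split_ifs with h
      · have := hi.1 h; omega
      · have := mt hi.2 h; omega
    · have : ((∑ i, z i : ℤ) : ZMod 4) = 0 := hsum
      rw [ZMod.intCast_zmod_eq_zero_iff_dvd] at this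
      show (8 : ℤ) ∣ (∑ i, 2 * z i) - 4 * 0
      rw [← mul_sum]; push_cast at this; omega
    · show ((2 * z none : ℤ) : ZMod 2) = 0
      rw [ZMod.intCast_zmod_eq_zero_iff_dvd]; exact dvd_mul_right _ _
  · rintro ⟨hx, hpar⟩
    obtain ⟨m, c, y, hm, hc, hx, hs⟩ := mem_lattice_iff.1 hx
    have hp : ((x none : ℤ) : ZMod 2) = 0 := hpar
    rw [ZMod.intCast_zmod_eq_zero_iff_dvd] at hp
    have := hx none
    push_cast at hp
    have hm0 : m = 0 := by omega
    subst hm0
    refine ⟨fun i => ind c i + 2 * y i, ⟨?_, ?_⟩, funext fun i => ?_⟩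
    · show redHom (fun i => ind c i + 2 * y i) ∈ golayCode
      have h2 : (2 : ZMod 2) = 0 := by decide
      have e : redHom (fun i => ind c i + 2 * y i) = word c := by
        funext i
        by_cases h : i ∈ c <;> simp [redHom, ind, word, h, h2]
      rw [e, mem_code_iff, support₂_word]
      exact mem_supports_iff.1 hc
    · show ((∑ i, (ind c i + 2 * y i) : ℤ) : ZMod 4) = 0
      rw [ZMod.intCast_zmod_eq_zero_iff_dvd]
      simp only [hx, zero_add, sum_add_distrib, ← mul_sum] at hs ⊢
      push_cast
      omega
    · show 2 * (ind c i + 2 * y i) = x i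
      rw [hx i]; ring

theorem leech_index : leechLattice.index = 2 ^ 36 := by
  have h1 : (leechLattice ⊓ parHom.ker).index = 2 ^ 37 := by
    rw [← map_dbl_halves, AddSubgroup.index_map_of_injective _ dblHom_injective, halves_index,
      dbl_range_index]
    norm_num
  have h2 : (leechLattice ⊓ parHom.ker).relIndex leechLattice = 2 := by
    rw [inf_comm, AddSubgroup.inf_relIndex_right, relIndex_ker']
    have himg : (leechLattice.map parHom : Set (ZMod 2)) = Set.univ := by
      refine Set.eq_univ_of_forall fun z => ?_
      have hz : z = 0 ∨ z = 1 := by revert z; decide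
      rcases hz with rfl | rfl
      · exact ⟨0, zero_mem _, map_zero _⟩
      · refine ⟨fun i => if i = none then -3 else 1, mem_lattice_iff.2 ⟨1, ∅,
          fun i => if i = none then -1 else 0, Or.inr rfl, empty_mem,
          fun i => by by_cases h : i = none <;> simp [ind, h], by decide +kernel⟩, ?_⟩
        show ((-3 : ℤ) : ZMod 2) = 1
        decide
    show Nat.card (leechLattice.map parHom : Set (ZMod 2)) = 2
    rw [Nat.card_coe_set_eq, himg, Set.ncard_univ, Nat.card_zmod]
  have h := AddSubgroup.relIndex_mul_index (inf_le_left : leechLattice ⊓ parHom.ker ≤ leechLattice)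
  rw [h1, h2] at h
  omega

end Cfsg.Agent.Leech.Index
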