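import Cfsg.Agent.Lib.Leech.Classes
import Cfsg.Agent.Lib.Leech.Shapes
import Cfsg.Agent.Lib.Leech.Index

/-!
The lattice modulo twice itself, and the same for abstract Gram matrices.
-/

set_option autoImplicit false
set_option maxRecDepth 10000

namespace Cfsg.Agent.Leech.Mod2

open Cfsg Cfsg.Agent.Leech.Basic Cfsg.Agent.Leech.Classes Cfsg.Agent.Leech.Index
  Cfsg.Agent.Leech.Count Cfsg.Agent.Leech.Shapes Finset Matrix

theorem index_range_double {n : ℕ} :
    (nsmulAddMonoidHom (α := Fin n → ℤ) 2).range.index = 2 ^ n := by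
  let f : (Fin n → ℤ) →+ (Fin n → ZMod 2) :=
    { toFun := fun x i => (x i : ZMod 2)
      map_zero' := by funext i; simp
      map_add' := fun x y => by funext i; simp }
  have hk : (nsmulAddMonoidHom (α := Fin n → ℤ) 2).range = f.ker := by
    ext x
    constructor
    · rintro ⟨y, rfl⟩
      funext i
      show ((((2 : ℕ) • y) i : ℤ) : ZMod 2) = 0
      rw [Pi.smul_apply, ZMod.intCast_zmod_eq_zero_iff_dvd, two_nsmul]
      exact ⟨y i, by push_cast; ring⟩
    · intro hx
      refine ⟨fun i => x i / 2, funext fun i => ?_⟩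
      have h2 : (x i : ZMod 2) = 0 := congrFun hx i
      rw [ZMod.intCast_zmod_eq_zero_iff_dvd] at h2
      show ((2 : ℕ) • fun i => x i / 2) i = x i
      rw [Pi.smul_apply, two_nsmul]
      push_cast at h2
      omega
  rw [hk, AddSubgroup.index_ker, AddMonoidHom.range_eq_top.2, AddSubgroup.card_top,
    Nat.card_eq_fintype_card]
  · simp
  · exact fun w => ⟨fun i => ((w i).val : ℤ), by funext i; simp [f]⟩

theorem orth_le {ι : Type*} [Fintype ι] {L : Type*} [AddCommGroup L] (φ : L →+ (ι → ℤ))
    (b : L → L → ℤ) (B : (ι → ℤ) → (ι → ℤ) → ℤ) (hb : ∀ x y, b x y = B (φ x) (φ y))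
    (hB : ∀ (T : Finset L) (c : L → ℤ) (w : ι → ℤ), B (∑ x ∈ T, c x • φ x) w = ∑ x ∈ T, c x * B (φ x) w)
    (hB0 : ∀ w, B 0 w = 0) (hpos : ∀ x, x ≠ 0 → b x x ≠ 0)
    (T : Finset L) (hT : ∀ x ∈ T, x ≠ 0) (ho : ∀ x ∈ T, ∀ y ∈ T, x ≠ y → b x y = 0) :
    T.card ≤ Fintype.card ι := by
  classical
  have hli : LinearIndependent ℤ fun x : T => φ x.1 := by
    rw [Fintype.linearIndependent_iff]
    intro g hg i
    let c : L → ℤ := fun x => if hx : x ∈ T then g ⟨x, hx⟩ else 0
    have hsum : ∑ x ∈ T, c x • φ x = 0 := by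
      rw [← hg, ← sum_coe_sort T]
      exact sum_congr rfl fun x _ => by simp [c, x.2]
    have h := hB T c (φ i.1)
    rw [hsum, hB0, sum_eq_single i.1 (fun x hx hne => by rw [← hb, ho x hx i.1 i.2 hne, mul_zero])
      (fun h => absurd i.2 h), ← hb] at h
    rcases mul_eq_zero.1 h.symm with h0 | h0
    · simpa [c, i.2] using h0
    · exact absurd h0 (hpos i.1 (hT _ i.2))
  have h := hli.fintype_card_le_finrank
  rwa [Fintype.card_coe, Module.finrank_fintype_fun_eq_card] at h

/-- The form of a Gram matrix. -/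
def gram (B : Matrix (Fin 24) (Fin 24) ℤ) (x y : Fin 24 → ℤ) : ℤ := x ⬝ᵥ (B *ᵥ y)

theorem gram_add (B : Matrix (Fin 24) (Fin 24) ℤ) (x y z : Fin 24 → ℤ) :
    gram B (x + y) z = gram B x z + gram B y z := add_dotProduct _ _ _

theorem gram_symm {B : Matrix (Fin 24) (Fin 24) ℤ} (hB : B.IsSymm) (x y : Fin 24 → ℤ) :
    gram B x y = gram B y x := by
  rw [gram, gram, dotProduct_mulVec, ← mulVec_transpose, hB.eq, dotProduct_comm]

theorem gram_congr {B : Matrix (Fin 24) (Fin 24) ℤ} (hsymm : B.IsSymm)
    (hmin : ∀ x, x ≠ 0 → 4 ≤ gram B x x) {x y : Fin 24 → ℤ} (hx : gram B x x = 8)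
    (hy : gram B y y = 8) {z : Fin 24 → ℤ} (hz : x - y = z + z) :
    y = x ∨ y = -x ∨ gram B x y = 0 := by
  by_cases h1 : z = 0
  · left
    rw [h1, add_zero, sub_eq_zero] at hz
    exact hz.symm
  by_cases h2 : z + y = 0
  · right; left
    have e : z = -y := eq_neg_of_add_eq_zero_left h2
    rw [e, sub_eq_iff_eq_add] at hz
    rw [hz]
    abel
  right; right
  have hx' : x = z + (z + y) := by rw [← add_assoc, ← hz, sub_add_cancel]
  have m1 := hmin z h1
  have m2 := hmin _ h2
  have hs := gram_symm hsymm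
  rw [hx'] at hx ⊢
  simp only [gram_add, hs z (_ + _), hs y (_ + _), hs y z] at hx m2 ⊢
  omega

theorem gram_min {B : Matrix (Fin 24) (Fin 24) ℤ}
    (hpos : ∀ x : Fin 24 → ℤ, x ≠ 0 → 0 < gram B x x) (heven : ∀ x, (2 : ℤ) ∣ gram B x x)
    (h2 : ∀ x, gram B x x ≠ 2) (x : Fin 24 → ℤ) (hx : x ≠ 0) : 4 ≤ gram B x x := by
  have := hpos x hx; have := heven x; have := h2 x
  omega

theorem gram_shells {B : Matrix (Fin 24) (Fin 24) ℤ} (hsymm : B.IsSymm)
    (hpos : ∀ x : Fin 24 → ℤ, x ≠ 0 → 0 < gram B x x) (heven : ∀ x, (2 : ℤ) ∣ gram B x x)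
    (h2 : ∀ x, gram B x x ≠ 2) (h4 : {x | gram B x x = 4}.ncard = 196560)
    (h6 : {x | gram B x x = 6}.ncard = 16773120) (h8 : {x | gram B x x = 8}.ncard = 398034000) :
    Shells (Fin 24 → ℤ) 1 (gram B) where
  spos := one_pos
  add_left := gram_add B
  symm := gram_symm hsymm
  torsion z hz := funext fun i => by
    have := congrFun hz i
    simp only [Pi.add_apply, Pi.zero_apply] at this ⊢
    omega
  min x hx := by rw [mul_one]; exact gram_min hpos heven h2 x hx
  even x := by rw [mul_one]; exact heven x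
  four := by simp only [mul_one]; exact h4
  six := by simp only [mul_one]; exact h6
  eight := by simp only [mul_one]; exact h8
  classes := index_range_double
  orth T hT ho := by
    have h := orth_le (AddMonoidHom.id (Fin 24 → ℤ)) (gram B) (gram B) (fun _ _ => rfl)
      (fun T c w => by
        simp only [gram, sum_dotProduct, smul_dotProduct, smul_eq_mul, AddMonoidHom.id_apply])
      (fun w => zero_dotProduct _) (fun x hx => (hpos x hx).ne') T hT ho
    simpa using h

/-- The scaled form on the lattice. -/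
def lform (x y : leechLattice) : ℤ := dotInt (x : GolayPt → ℤ) (y : GolayPt → ℤ)

theorem lform_self (x : leechLattice) : lform x x = sqNorm (x : GolayPt → ℤ) := by
  simp only [lform, dotInt, sqNorm, sq]

theorem lattice_index_double :
    (nsmulAddMonoidHom (α := leechLattice) 2).range.index = 2 ^ 24 := by
  have hmap : (nsmulAddMonoidHom (α := leechLattice) 2).range =
      (leechLattice.map dblHom).addSubgroupOf leechLattice := by
    ext x
    rw [AddSubgroup.mem_addSubgroupOf, AddSubgroup.mem_map]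
    constructor
    · rintro ⟨z, rfl⟩
      refine ⟨z, z.2, funext fun i => ?_⟩
      show 2 * (z : GolayPt → ℤ) i = ((2 • z : leechLattice) : GolayPt → ℤ) i
      rw [two_nsmul]; simp [two_mul]
    · rintro ⟨z, hz, e⟩
      refine ⟨⟨z, hz⟩, Subtype.ext ?_⟩
      rw [← e]
      funext i
      show ((2 • (⟨z, hz⟩ : leechLattice) : leechLattice) : GolayPt → ℤ) i = 2 * z i
      rw [two_nsmul]; simp [two_mul]
  have hle : leechLattice.map dblHom ≤ leechLattice := by
    rintro _ ⟨z, hz, rfl⟩
    have := add_mem hz hz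
    convert this using 1
    funext i
    simp [dblHom, two_mul]
  have h : (leechLattice.map dblHom).relIndex leechLattice * leechLattice.index =
      (leechLattice.map dblHom).index := AddSubgroup.relIndex_mul_index hle
  rw [AddSubgroup.index_map_of_injective _ dblHom_injective, leech_index, dbl_range_index] at h
  rw [hmap]
  show (leechLattice.map dblHom).relIndex leechLattice = 2 ^ 24
  exact Nat.eq_of_mul_eq_mul_right (by norm_num : 0 < 2 ^ 36) (h.trans (Nat.mul_comm _ _))

theorem lattice_shell {N : ℕ} (hN : N ≤ 64) :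
    {x : leechLattice | lform x x = N}.ncard = totalCount (fun _ => true) N := by
  rw [← count_all hN, ← Set.ncard_image_of_injective _ Subtype.val_injective]
  refine congrArg Set.ncard (Set.ext fun x => ?_)
  simp only [Set.mem_image, Set.mem_ofPred_eq, lform_self]
  exact ⟨fun ⟨y, hy, e⟩ => e ▸ ⟨y.2, hy⟩, fun ⟨hx, hn⟩ => ⟨⟨x, hx⟩, hn, rfl⟩⟩

theorem leech_shells : Shells leechLattice 8 lform where
  spos := by norm_num
  add_left x y z := by simp [lform, dotInt, add_mul, sum_add_distrib]
  symm x y := by simp [lform, dotInt, mul_comm]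
  torsion z hz := by
    apply Subtype.ext; funext i
    have h := congrFun (congrArg Subtype.val hz) i
    simp at h ⊢
    omega
  min x hx := by
    rw [lform_self]
    exact min_norm x.2 fun e => hx (Subtype.ext e)
  even x := by rw [lform_self]; exact sixteen_dvd_sqNorm x.2
  four := (lattice_shell (N := 32) (by norm_num)).trans (by decide +kernel)
  six := (lattice_shell (N := 48) (by norm_num)).trans (by decide +kernel)
  eight := (lattice_shell (N := 64) (by norm_num)).trans (by decide +kernel)
  classes := lattice_index_double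
  orth T hT ho := by
    have h := orth_le leechLattice.subtype lform dotInt (fun _ _ => rfl)
      (fun T c w => by
        simp only [dotInt, Finset.sum_apply, Pi.smul_apply, smul_eq_mul, sum_mul, mul_sum]
        rw [sum_comm]
        exact sum_congr rfl fun x _ => sum_congr rfl fun i _ => by ring)
      (fun w => by simp [dotInt])
      (fun x hx => by
        rw [lform_self]
        have := min_norm x.2 fun e => hx (Subtype.ext e)
        omega) T hT ho
    rwa [show Fintype.card GolayPt = 24 by decide] at h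

theorem exists_half_iff {x y : leechLattice} :
    cls x = cls y ↔ ∃ z ∈ leechLattice, (x : GolayPt → ℤ) - (y : GolayPt → ℤ) = 2 • z := by
  rw [cls_eq_iff]
  constructor
  · rintro ⟨z, hz⟩
    exact ⟨z, z.2, by rw [two_nsmul, ← AddSubgroup.coe_sub, hz, AddSubgroup.coe_add]⟩
  · rintro ⟨z, hz, e⟩
    exact ⟨⟨z, hz⟩, Subtype.ext (by rw [AddSubgroup.coe_sub, e, two_nsmul, AddSubgroup.coe_add])⟩

end Cfsg.Agent.Leech.Mod2
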