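import Cfsg.Agent.Lib.Golay.Design
import Cfsg.Agent.Lib.Golay.M24

/-!
The rank-24 lattice of `Def_Sporadic_a`: `x` lies in it iff `x i = m + 2·[i ∈ c] + 4·y i` with
`m ∈ {0, 1}`, `c` the support of a code word, and `∑ x i ≡ 4 m (mod 8)`.
-/

set_option autoImplicit false

namespace Cfsg.Agent.Leech.Basic

open Cfsg Cfsg.Agent.Golay.Basic Cfsg.Agent.Golay.Design Finset
open scoped Pointwise

/-- Supports of code words. -/
abbrev codeSets : Set (Finset GolayPt) := supports (golayCode : Set (GolayPt → ZMod 2))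

/-- Indicator with integer values. -/
def ind (c : Finset GolayPt) (i : GolayPt) : ℤ := if i ∈ c then 1 else 0

/-- A decomposition witnessing membership. -/
def Shape (x : GolayPt → ℤ) (m : ℤ) (c : Finset GolayPt) (y : GolayPt → ℤ) : Prop :=
  (m = 0 ∨ m = 1) ∧ c ∈ codeSets ∧ (∀ i, x i = m + 2 * ind c i + 4 * y i) ∧
    (8 : ℤ) ∣ (∑ i, x i) - 4 * m

theorem empty_mem : (∅ : Finset GolayPt) ∈ codeSets := mem_supports_iff.2 (by decide +kernel)

theorem univ_mem : (univ : Finset GolayPt) ∈ codeSets := mem_supports_iff.2 (by decide +kernel)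

theorem compl_mem {c : Finset GolayPt} (h : c ∈ codeSets) : cᶜ ∈ codeSets := by
  have e : cᶜ = symmDiff c univ := by ext; simp [mem_symmDiff]
  exact e ▸ symmDiff_mem_supports h univ_mem

theorem four_dvd_card {c : Finset GolayPt} (h : c ∈ codeSets) : 4 ∣ c.card := by
  have := weights_supports h
  omega

theorem two_dvd_inter {c d : Finset GolayPt} (hc : c ∈ codeSets) (hd : d ∈ codeSets) :
    2 ∣ (c ∩ d).card := by
  have h1 := four_dvd_card (symmDiff_mem_supports hc hd)
  have h2 := card_symmDiff_eq c d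
  have h3 := four_dvd_card hc
  have h4 := four_dvd_card hd
  omega

theorem sum_ind (c : Finset GolayPt) : ∑ i, ind c i = c.card := by
  simp [ind]

theorem mem_leechSet_iff {x : GolayPt → ℤ} : x ∈ leechSet ↔ ∃ m c y, Shape x m c y := by
  constructor
  · rintro ⟨m, hpar, hsum, hclass⟩
    obtain ⟨m', hm', hmm⟩ : ∃ m' : ℤ, (m' = 0 ∨ m' = 1) ∧ m ≡ m' [ZMOD 2] :=
      ⟨m % 2, by omega, (Int.mod_modEq m 2).symm⟩
    refine ⟨m', univ.filter (fun i => x i ≡ m' + 2 [ZMOD 4]),
      fun i => (x i - m' - 2 * ind (univ.filter fun i => x i ≡ m' + 2 [ZMOD 4]) i) / 4, hm', hclass _,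
      fun i => ?_, ?_⟩
    · have h1 : x i % 2 = m' % 2 := (hpar i).trans hmm
      have hd : ind (univ.filter fun i => x i ≡ m' + 2 [ZMOD 4]) i =
          if x i % 4 = (m' + 2) % 4 then 1 else 0 := by
        have hmem : i ∈ univ.filter (fun j => x j ≡ m' + 2 [ZMOD 4]) ↔ x i % 4 = (m' + 2) % 4 := by
          rw [Finset.mem_filter]; exact ⟨fun h => h.2, fun h => ⟨Finset.mem_univ _, h⟩⟩
        unfold ind
        exact if_congr hmem rfl rfl
      simp only [hd]
      split <;> omega
    · have h1 : m % 2 = m' % 2 := hmm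
      have h2 : (∑ i, x i) % 8 = 4 * m % 8 := hsum
      omega
  · rintro ⟨m, c, y, hm, hc, hx, hsum⟩
    refine ⟨m, fun i => ?_, ?_, fun k => ?_⟩
    · have := hx i
      show x i % 2 = m % 2
      omega
    · show (∑ i, x i) % 8 = 4 * m % 8
      omega
    · have hf : (univ.filter fun i => x i ≡ k [ZMOD 4]) =
          if k % 4 = m % 4 then cᶜ else if k % 4 = (m + 2) % 4 then c else ∅ := by
        ext i
        have := hx i
        rw [Finset.mem_filter]
        by_cases hi : i ∈ c <;> simp only [ind, hi, if_true, if_false] at this <;>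
          split_ifs <;>
          simp only [Finset.mem_univ, true_and, Finset.mem_compl, hi, Finset.notMem_empty,
            not_true_eq_false, not_false_eq_true, iff_false, iff_true] <;>
          unfold Int.ModEq <;> omega
      rw [hf]
      split_ifs
      · exact compl_mem hc
      · exact hc
      · exact empty_mem

theorem ind_add (c d : Finset GolayPt) (i : GolayPt) :
    ind c i + ind d i = ind (symmDiff c d) i + 2 * ind (c ∩ d) i := by
  by_cases h1 : i ∈ c <;> by_cases h2 : i ∈ d <;> simp [ind, mem_symmDiff, h1, h2]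

theorem ind_compl (c : Finset GolayPt) (i : GolayPt) : ind cᶜ i = 1 - ind c i := by
  by_cases h : i ∈ c <;> simp [ind, h]

theorem shape_add {x x' : GolayPt → ℤ} {m m' : ℤ} {c c' : Finset GolayPt} {y y' : GolayPt → ℤ}
    (h : Shape x m c y) (h' : Shape x' m' c' y') : x + x' ∈ leechSet := by
  obtain ⟨hm, hc, hx, hs⟩ := h
  obtain ⟨hm', hc', hx', hs'⟩ := h'
  rw [mem_leechSet_iff]
  have hcd := symmDiff_mem_supports hc hc'
  by_cases h11 : m = 1 ∧ m' = 1
  · refine ⟨0, (symmDiff c c')ᶜ, fun i => y i + y' i + ind (c ∩ c') i + ind (symmDiff c c') i,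
      Or.inl rfl, compl_mem hcd, fun i => ?_, ?_⟩
    · simp only [Pi.add_apply, hx, hx', ind_compl]
      have := ind_add c c' i
      omega
    · simp only [Pi.add_apply, sum_add_distrib]
      omega
  · refine ⟨m + m', symmDiff c c', fun i => y i + y' i + ind (c ∩ c') i, by omega, hcd, fun i => ?_, ?_⟩
    · simp only [Pi.add_apply, hx, hx']
      have := ind_add c c' i
      omega
    · simp only [Pi.add_apply, sum_add_distrib]
      omega

theorem shape_neg {x : GolayPt → ℤ} {m : ℤ} {c : Finset GolayPt} {y : GolayPt → ℤ}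
    (h : Shape x m c y) : -x ∈ leechSet := by
  obtain ⟨hm, hc, hx, hs⟩ := h
  rw [mem_leechSet_iff]
  rcases hm with rfl | rfl
  · refine ⟨0, c, fun i => -y i - ind c i, Or.inl rfl, hc, fun i => ?_, ?_⟩
    · simp only [Pi.neg_apply, hx]; omega
    · simp only [Pi.neg_apply, sum_neg_distrib]; omega
  · refine ⟨1, cᶜ, fun i => -1 - y i, Or.inr rfl, compl_mem hc, fun i => ?_, ?_⟩
    · simp only [Pi.neg_apply, hx, ind_compl]; omega
    · simp only [Pi.neg_apply, sum_neg_distrib]; omega

/-- `leechSet` as a subgroup. -/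
def leechGroup : AddSubgroup (GolayPt → ℤ) where
  carrier := leechSet
  zero_mem' := mem_leechSet_iff.2 ⟨0, ∅, 0, Or.inl rfl, empty_mem, fun i => by simp [ind], by simp⟩
  add_mem' := by
    intro a b ha hb
    obtain ⟨m, c, y, h⟩ := mem_leechSet_iff.1 ha
    obtain ⟨m', c', y', h'⟩ := mem_leechSet_iff.1 hb
    exact shape_add h h'
  neg_mem' := by
    intro a ha
    obtain ⟨m, c, y, h⟩ := mem_leechSet_iff.1 ha
    exact shape_neg h

theorem leechLattice_eq : leechLattice = leechGroup :=
  le_antisymm ((AddSubgroup.closure_le _).2 (fun _ h => h)) fun _ h => AddSubgroup.subset_closure h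

theorem mem_lattice_iff {x : GolayPt → ℤ} :
    x ∈ leechLattice ↔ ∃ m c y, Shape x m c y := by
  rw [leechLattice_eq]; exact mem_leechSet_iff

/-- Permuting coordinates by an element of `M24`. -/
theorem perm_mem {σ : Equiv.Perm GolayPt} (hσ : σ ∈ M24) {x : GolayPt → ℤ} (hx : x ∈ leechLattice) :
    (fun i => x (σ i)) ∈ leechLattice := by
  obtain ⟨m, c, y, hm, hc, hx, hs⟩ := mem_lattice_iff.1 hx
  refine mem_lattice_iff.2 ⟨m, σ⁻¹ • c, fun i => y (σ i), hm,
    Cfsg.Agent.Golay.M24.smul_mem_supports (M24.inv_mem hσ) hc, fun i => ?_, ?_⟩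
  · have hi : ind (σ⁻¹ • c) i = ind c (σ i) := by
      have : i ∈ σ⁻¹ • c ↔ σ i ∈ c := by
        rw [show i = σ⁻¹ (σ i) from (σ.symm_apply_apply i).symm, Cfsg.Agent.Golay.M24.mem_smul_iff]
        simp
      simp only [ind, this]
    rw [hi]; exact hx _
  · rw [Equiv.sum_comp σ x]; exact hs

/-- Sign changes on the support of a code word. -/
theorem sign_mem {c : Finset GolayPt} (hc : c ∈ codeSets) {x : GolayPt → ℤ} (hx : x ∈ leechLattice) :
    (fun i => if i ∈ c then -x i else x i) ∈ leechLattice := by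
  obtain ⟨m, d, y, hm, hd, hx, hs⟩ := mem_lattice_iff.1 hx
  have hev := two_dvd_inter hd hc
  have h4 := four_dvd_card hc
  have hfun : ∀ i, (if i ∈ c then -x i else x i) = x i - 2 * (ind c i * x i) := fun i => by
    by_cases h : i ∈ c <;> simp [ind, h] <;> ring
  have hpart : ∑ i, ind c i * x i = m * c.card + 2 * (d ∩ c).card + 4 * ∑ i, ind c i * y i := by
    have : ∀ i, ind c i * x i = m * ind c i + 2 * ind (d ∩ c) i + 4 * (ind c i * y i) := fun i => by
      rw [hx i]
      by_cases h : i ∈ c <;> by_cases h' : i ∈ d <;> simp [ind, h, h']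
    simp only [this, sum_add_distrib, ← mul_sum, sum_ind]
  refine mem_lattice_iff.2 ?_
  have hsum : (8 : ℤ) ∣ (∑ i, (if i ∈ c then -x i else x i)) - 4 * m := by
    simp only [hfun, sum_sub_distrib, ← mul_sum, hpart]
    rcases hm with rfl | rfl <;> omega
  rcases hm with rfl | rfl
  · exact ⟨0, d, fun i => if i ∈ c then -y i - ind d i else y i, Or.inl rfl, hd, fun i => by
      have := hx i
      by_cases h : i ∈ c <;> simp only [h, if_true, if_false] <;> omega, hsum⟩
  · exact ⟨1, symmDiff d c, fun i => if i ∈ c then -y i - 1 else y i, Or.inr rfl,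
      symmDiff_mem_supports hd hc, fun i => by
        have := hx i
        by_cases h : i ∈ c <;> by_cases h' : i ∈ d <;>
          simp [ind, mem_symmDiff, h, h'] at this ⊢ <;> omega, hsum⟩

theorem sixteen_dvd_sqNorm {x : GolayPt → ℤ} (hx : x ∈ leechLattice) : (16 : ℤ) ∣ sqNorm x := by
  obtain ⟨m, c, y, hm, hc, hx, hs⟩ := mem_lattice_iff.1 hx
  have h4 := four_dvd_card hc
  have hsum : ∑ i, x i = 24 * m + 2 * c.card + 4 * ∑ i, y i := by
    simp only [hx, sum_add_distrib, ← mul_sum, sum_ind, sum_const, card_univ]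
    rw [show Fintype.card GolayPt = 24 by decide]
    simp
  have hsq : ∀ i, x i ^ 2 = m + 4 * ind c i + 4 * (m * ind c i) + 8 * (m * y i) +
      16 * (ind c i * y i + y i ^ 2) := fun i => by
    rw [hx i]
    rcases hm with rfl | rfl <;> by_cases h : i ∈ c <;> simp [ind, h] <;> ring
  unfold sqNorm
  simp only [hsq, sum_add_distrib, ← mul_sum, sum_ind, sum_const, card_univ]
  rw [show Fintype.card GolayPt = 24 by decide]
  simp only [nsmul_eq_mul]
  rcases hm with rfl | rfl <;> push_cast <;> omega

theorem le_sqNorm_of_subset {x : GolayPt → ℤ} {s : Finset GolayPt} {b : ℤ}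
    (h : ∀ i ∈ s, b ≤ x i ^ 2) : (s.card : ℤ) * b ≤ sqNorm x :=
  calc (s.card : ℤ) * b = ∑ _i ∈ s, b := by simp
    _ ≤ ∑ i ∈ s, x i ^ 2 := sum_le_sum h
    _ ≤ sqNorm x := sum_le_univ_sum_of_nonneg fun i => sq_nonneg _

theorem min_norm {x : GolayPt → ℤ} (hx : x ∈ leechLattice) (h0 : x ≠ 0) : 32 ≤ sqNorm x := by
  have h16 := sixteen_dvd_sqNorm hx
  obtain ⟨m, c, y, hm, hc, hx, hs⟩ := mem_lattice_iff.1 hx
  rcases hm with rfl | rfl
  · rcases weights_supports hc with h | h | h | h | h
    · rw [card_eq_zero] at h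
      subst h
      have hx' : ∀ i, x i = 4 * y i := fun i => by simp [hx, ind]
      obtain ⟨i, hi⟩ := Function.ne_iff.1 h0
      simp only [Pi.zero_apply] at hi
      have hsum : (2 : ℤ) ∣ ∑ j, y j := by
        simp only [hx', ← mul_sum] at hs; omega
      by_cases hex : ∃ j ≠ i, y j ≠ 0
      · obtain ⟨j, hji, hj⟩ := hex
        have := le_sqNorm_of_subset (x := x) (s := {i, j}) (b := 16) (by
          intro l hl
          have hl' : y l ≠ 0 := by
            simp only [mem_insert, mem_singleton] at hl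
            rcases hl with rfl | rfl
            · have := hx' l; omega
            · exact hj
          have : 1 ≤ y l ^ 2 := (Int.one_le_abs hl').trans' le_rfl |> fun h => by nlinarith [sq_abs (y l)]
          rw [hx' l]; nlinarith)
        rw [card_pair (Ne.symm hji)] at this
        push_cast at this
        linarith
      · have hyi : ∑ j, y j = y i := sum_eq_single i (fun j _ hji => by
          by_contra h; exact hex ⟨j, hji, h⟩) (by simp)
        have hy0 : y i ≠ 0 := by have := hx' i; omega
        have h2 : 4 ≤ y i ^ 2 := by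
          obtain ⟨k, hk⟩ := hyi ▸ hsum
          have : 1 ≤ k ^ 2 := by
            have : k ≠ 0 := by omega
            nlinarith [Int.one_le_abs this, sq_abs k]
          rw [hk]; nlinarith
        have := le_sqNorm_of_subset (x := x) (s := {i}) (b := 64) (by
          intro l hl; rw [mem_singleton.1 hl, hx' i]; nlinarith)
        simp at this
        linarith
    all_goals
      have := le_sqNorm_of_subset (x := x) (s := c) (b := 4) (by
        intro l hl
        have h1 : x l = 2 * (1 + 2 * y l) := by simp [hx, ind, hl]; ring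
        rw [h1]
        have : 1 ≤ (1 + 2 * y l) ^ 2 := by
          nlinarith [Int.one_le_abs (show 1 + 2 * y l ≠ 0 by omega), sq_abs (1 + 2 * y l)]
        nlinarith)
      rw [h] at this
      push_cast at this
      linarith
  · have := le_sqNorm_of_subset (x := x) (s := univ) (b := 1) (by
      intro l _
      have := hx l
      nlinarith [Int.one_le_abs (show x l ≠ 0 by omega), sq_abs (x l)])
    rw [card_univ, show Fintype.card GolayPt = 24 by decide] at this
    push_cast at this
    omega

end Cfsg.Agent.Leech.Basic
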