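import Cfsg.Agent.Lib.Leech.Frame
import Cfsg.Agent.Lib.Leech.Basic
import Cfsg.Agent.S0375

/-!
A lattice with the shells of the Leech lattice is the Leech lattice.
-/

set_option autoImplicit false
set_option linter.unusedSectionVars false

namespace Cfsg.Agent.Leech.Char

open Finset Cfsg Cfsg.Agent.Leech.Classes Cfsg.Agent.Leech.Frames

variable {L : Type*} [AddCommGroup L] {b : L → L → ℤ} {ι : Type*} [Fintype ι] [DecidableEq ι]
  (F : Frame ι b) (h : Shells L 1 b)

theorem zmod2_cases (p : ZMod 2) : p = 0 ∨ p = 1 := by revert p; decide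

theorem zmod2_val (p : ZMod 2) : (p.val : ℤ) = if p = 1 then 1 else 0 := by revert p; decide

theorem cast_val (p : ZMod 2) : (((p.val : ℕ) : ℤ) : ZMod 2) = p := by revert p; decide

open scoped Classical in
theorem octad_bound :
    (univ.filter fun c : ι → ZMod 2 => c ∈ F.code h ∧ (Frame.supp c).card = 8).card ≤ 759 := by
  classical
  set O := univ.filter fun c : ι → ZMod 2 => c ∈ F.code h ∧ (Frame.supp c).card = 8
  have hdis : (O : Set (ι → ZMod 2)).PairwiseDisjoint
      (fun c => (Frame.supp c).powersetCard 5) := by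
    intro c hc d hd hne
    rw [Function.onFun, disjoint_left]
    intro t htc htd
    obtain ⟨hc1, hc2⟩ := mem_powersetCard.1 htc
    obtain ⟨hd1, -⟩ := mem_powersetCard.1 htd
    obtain ⟨-, hcC, hc8⟩ := mem_filter.1 hc
    obtain ⟨-, hdC, hd8⟩ := mem_filter.1 hd
    obtain ⟨-, hw⟩ := F.weight h ((F.code h).add_mem hcC hdC) (fun e => hne (funext fun i => by
      have := congrFun e i
      rcases zmod2_cases (c i) with e1 | e1 <;> rcases zmod2_cases (d i) with e2 | e2 <;>
        simp_all))
    have hsub : Frame.supp (c + d) ⊆ (Frame.supp c \ t) ∪ (Frame.supp d \ t) := by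
      intro i hi
      simp only [Frame.supp, mem_filter, mem_univ, true_and, Pi.add_apply] at hi
      have key : ∀ p q : ZMod 2, p + q = 1 → (p = 1 ∧ q ≠ 1) ∨ (q = 1 ∧ p ≠ 1) := by decide
      rcases key _ _ hi with ⟨hp, hq⟩ | ⟨hq, hp⟩
      · refine mem_union_left _ (mem_sdiff.2 ⟨by simp [Frame.supp, hp], fun hit => hq ?_⟩)
        exact (mem_filter.1 (hd1 hit)).2
      · refine mem_union_right _ (mem_sdiff.2 ⟨by simp [Frame.supp, hq], fun hit => hp ?_⟩)
        exact (mem_filter.1 (hc1 hit)).2
    have := (card_le_card hsub).trans (card_union_le _ _)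
    rw [card_sdiff_of_subset hc1, card_sdiff_of_subset hd1] at this
    omega
  have h1 := card_biUnion hdis
  have h2 : (O.biUnion fun c => (Frame.supp c).powersetCard 5) ⊆ univ.powersetCard 5 := by
    intro t ht
    obtain ⟨c, -, htc⟩ := mem_biUnion.1 ht
    exact mem_powersetCard.2 ⟨subset_univ _, (mem_powersetCard.1 htc).2⟩
  have h3 := card_le_card h2
  have h56 : ∀ c ∈ O, ((Frame.supp c).powersetCard 5).card = 56 := fun c hc => by
    rw [card_powersetCard, (mem_filter.1 hc).2.2]; rfl
  rw [h1, sum_congr rfl h56, sum_const, card_powersetCard, card_univ, F.card, smul_eq_mul,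
    show Nat.choose 24 5 = 42504 from rfl] at h3
  omega

/-- The word of an even vector. -/
def evenWord (x : L) : ι → ZMod 2 := fun i => ((F.coord h x i / 2 : ℤ) : ZMod 2)

theorem evenWord_spec {x : L} (hx : ∀ i, (2 : ℤ) ∣ F.coord h x i) :
    ∃ y, F.IsLift h x (evenWord F h x) y := by
  refine ⟨fun i => (F.coord h x i / 2 - ((evenWord F h x i).val : ℤ)) / 2, fun i => ?_⟩
  have h2 : (2 : ℤ) ∣ F.coord h x i / 2 - ((evenWord F h x i).val : ℤ) := by
    refine (ZMod.intCast_zmod_eq_zero_iff_dvd _ 2).1 ?_
    rw [Int.cast_sub, cast_val]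
    exact sub_self _
  have := hx i
  beta_reduce
  omega

theorem count_bound :
    (({x | b x x = 4 ∧ ∀ i, (2 : ℤ) ∣ F.coord h x i}.ncard ≤ 98256) ∧
      {x | b x x = 4 ∧ ¬ ∀ i, (2 : ℤ) ∣ F.coord h x i}.ncard ≤ 24 * Nat.card (F.code h)) := by
  classical
  obtain ⟨o⟩ := F.exists_pos
  constructor
  · -- keys
    let O := univ.filter fun c : ι → ZMod 2 => c ∈ F.code h ∧ (Frame.supp c).card = 8
    let T0 : Finset ((ι → ZMod 2) × Finset ι × Finset ι) :=
      ((univ.powersetCard 2).sigma fun P : Finset ι => P.powerset).image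
        fun p => (0, p.1, p.2)
    let pick : (ι → ZMod 2) → ι := fun c =>
      if hc : (Frame.supp c).Nonempty then hc.choose else o
    let T8 : Finset ((ι → ZMod 2) × Finset ι × Finset ι) :=
      (O.sigma fun c => ((Frame.supp c).erase (pick c)).powerset).image fun p => (p.1, ∅, p.2)
    let key : L → (ι → ZMod 2) × Finset ι × Finset ι := fun x =>
      if evenWord F h x = 0 then
        (0, univ.filter fun i => F.coord h x i ≠ 0, univ.filter fun i => 0 < F.coord h x i)
      else (evenWord F h x, ∅,
        (univ.filter fun i => 0 < F.coord h x i).erase (pick (evenWord F h x)))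
    have hT0 : T0.card ≤ 1104 := by
      refine card_image_le.trans ?_
      have hP4 : ∀ P ∈ powersetCard 2 (univ : Finset ι), P.powerset.card = 4 := fun P hP => by
        rw [card_powerset, (mem_powersetCard.1 hP).2]; rfl
      rw [card_sigma, sum_congr rfl hP4, sum_const, card_powersetCard, card_univ,
        F.card, show Nat.choose 24 2 = 276 from rfl]
      norm_num
    have hT8 : T8.card ≤ 97152 := by
      refine card_image_le.trans ?_
      have h128 : ∀ c ∈ O, ((Frame.supp c).erase (pick c)).powerset.card = 128 := fun c hc => by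
        have h8 := (mem_filter.1 hc).2.2
        have hne : (Frame.supp c).Nonempty := card_pos.1 (by omega)
        have hm : pick c ∈ Frame.supp c := by simp only [pick, dif_pos hne]; exact hne.choose_spec
        rw [card_powerset, card_erase_of_mem hm, h8]; rfl
      rw [card_sigma, sum_congr rfl h128, sum_const, smul_eq_mul]
      have : O.card ≤ 759 := le_trans (le_of_eq (congrArg Finset.card (by ext; simp [O])))
        (octad_bound F h)
      omega
    -- shape of a short even vector
    have shape : ∀ x, b x x = 4 → (∀ i, (2 : ℤ) ∣ F.coord h x i) →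
        (evenWord F h x = 0 ∧ (univ.filter fun i => F.coord h x i ≠ 0).card = 2 ∧
          ∀ i, F.coord h x i = 0 ∨ F.coord h x i = 4 ∨ F.coord h x i = -4) ∨
        (evenWord F h x ∈ O ∧ ∀ i, (evenWord F h x i = 0 ∧ F.coord h x i = 0) ∨
          (evenWord F h x i = 1 ∧ (F.coord h x i = 2 ∨ F.coord h x i = -2))) := by
      intro x hx hev
      obtain ⟨y, hy⟩ := evenWord_spec F h hev
      have hn := F.eight_norm h x
      rw [hx] at hn
      have hle : ∀ i, F.coord h x i ^ 2 ≤ 32 := fun i => by
        rw [show (32 : ℤ) = 8 * 4 by norm_num, hn]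
        exact single_le_sum (f := fun j => F.coord h x j ^ 2) (fun j _ => sq_nonneg _) (mem_univ i)
      have hr : ∀ i, -5 ≤ F.coord h x i ∧ F.coord h x i ≤ 5 := fun i => by
        have := hle i; constructor <;> nlinarith
      by_cases hc : evenWord F h x = 0
      · refine Or.inl ⟨hc, ?_, fun i => ?_⟩
        · have hsq : ∀ i, F.coord h x i ^ 2 = if F.coord h x i ≠ 0 then 16 else 0 := fun i => by
            have e := hy i
            simp only [hc, Pi.zero_apply, ZMod.val_zero, Nat.cast_zero, mul_zero, zero_add] at e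
            have := hr i
            obtain e0 | e0 | e0 : F.coord h x i = 0 ∨ F.coord h x i = 4 ∨ F.coord h x i = -4 := by
              omega
            all_goals simp [-Frame.coord_apply, e0]
          simp only [hsq, sum_ite, sum_const_zero, add_zero, sum_const, nsmul_eq_mul] at hn
          omega
        · have e := hy i
          simp only [hc, Pi.zero_apply, ZMod.val_zero, Nat.cast_zero, mul_zero, zero_add] at e
          have := hr i
          omega
      · have hmem : evenWord F h x ∈ F.code h := (F.mem_code h).2 ⟨x, y, hy⟩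
        obtain ⟨h4, h8⟩ := F.weight h hmem hc
        have hge : ∀ i, 4 * ((evenWord F h x i).val : ℤ) ≤ F.coord h x i ^ 2 := fun i => by
          rcases zmod2_cases (evenWord F h x i) with e | e
          · simp [e, sq_nonneg]
          · have e' := hy i
            simp only [e, ZMod.val_one, Nat.cast_one, mul_one] at e' ⊢
            rcases (show F.coord h x i ≤ -2 ∨ 2 ≤ F.coord h x i by omega) with hh | hh <;> nlinarith
        have hle8 := sum_le_sum (s := univ) (fun i _ => hge i)
        rw [← hn, ← mul_sum, Frame.sum_val] at hle8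
        have hcard : (Frame.supp (evenWord F h x)).card = 8 := by omega
        have heq := (sum_eq_sum_iff_of_le (fun i (_ : i ∈ univ) => hge i)).1
          (by rw [← hn, ← mul_sum, Frame.sum_val, hcard]; norm_num)
        refine Or.inr ⟨mem_filter.2 ⟨mem_univ _, hmem, hcard⟩, fun i => ?_⟩
        have hi := heq i (mem_univ i)
        rcases zmod2_cases (evenWord F h x i) with e | e
        · refine Or.inl ⟨e, ?_⟩
          simp only [e, ZMod.val_zero, Nat.cast_zero, mul_zero] at hi
          exact pow_eq_zero_iff two_ne_zero |>.1 hi.symm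
        · refine Or.inr ⟨e, ?_⟩
          simp only [e, ZMod.val_one, Nat.cast_one] at hi
          exact sq_eq_sq_iff_eq_or_eq_neg.1 (by rw [← hi]; norm_num)
    calc _ ≤ (↑(T0 ∪ T8) : Set ((ι → ZMod 2) × Finset ι × Finset ι)).ncard := by
          refine Set.ncard_le_ncard_of_injOn key (fun x hx => ?_) (fun x hx x' hx' e => ?_)
            (finite_toSet _)
          · obtain ⟨hb, hev⟩ := hx
            rcases shape x hb hev with ⟨hc, h2, -⟩ | ⟨hO, hv⟩
            · refine mem_union_left _ (mem_image.2 ⟨⟨univ.filter fun i => F.coord h x i ≠ 0, univ.filter fun i => 0 < F.coord h x i⟩,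
                mem_sigma.2 ⟨mem_powersetCard.2 ⟨subset_univ _, h2⟩, mem_powerset.2 fun i hi => ?_⟩,
                by simp only [key, if_pos hc]⟩)
              simp only [mem_filter, mem_univ, true_and] at hi ⊢
              exact hi.ne'
            · have hne : evenWord F h x ≠ 0 := fun e0 => by
                have := (mem_filter.1 hO).2.2
                simp [Frame.supp, e0] at this
              refine mem_union_right _ (mem_image.2 ⟨⟨evenWord F h x, (univ.filter fun i => 0 < F.coord h x i).erase (pick (evenWord F h x))⟩,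
                mem_sigma.2 ⟨hO, mem_powerset.2 (erase_subset_erase _ fun i hi => ?_)⟩,
                by simp only [key, if_neg hne]⟩)
              simp only [mem_filter, mem_univ, true_and, Frame.supp] at hi ⊢
              rcases hv i with ⟨-, e0⟩ | ⟨e1, -⟩
              · omega
              · exact e1
          · obtain ⟨hb, hev⟩ := hx
            obtain ⟨hb', hev'⟩ := hx'
            rcases shape x hb hev with ⟨hc, -, hv⟩ | ⟨hO, hv⟩ <;>
              rcases shape x' hb' hev' with ⟨hc', -, hv'⟩ | ⟨hO', hv'⟩
            · simp only [key, if_pos hc, if_pos hc', Prod.mk.injEq, true_and] at e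
              refine F.coord_injective h (funext fun i => ?_)
              have e1 := Finset.ext_iff.1 e.1 i
              have e2 := Finset.ext_iff.1 e.2 i
              simp only [mem_filter, mem_univ, true_and] at e1 e2
              rcases hv i with a | a | a <;> rcases hv' i with a' | a' | a' <;>
                simp [-Frame.coord_apply, a, a'] at e1 e2 ⊢
            · have hne : evenWord F h x' ≠ 0 := fun e0 => by
                have := (mem_filter.1 hO').2.2
                simp [Frame.supp, e0] at this
              simp only [key, if_pos hc, if_neg hne, Prod.mk.injEq] at e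
              exact absurd e.1.symm hne
            · have hne : evenWord F h x ≠ 0 := fun e0 => by
                have := (mem_filter.1 hO).2.2
                simp [Frame.supp, e0] at this
              simp only [key, if_neg hne, if_pos hc', Prod.mk.injEq] at e
              exact absurd e.1 hne
            · have hne : evenWord F h x ≠ 0 := fun e0 => by
                have := (mem_filter.1 hO).2.2
                simp [Frame.supp, e0] at this
              have hne' : evenWord F h x' ≠ 0 := fun e0 => by
                have := (mem_filter.1 hO').2.2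
                simp [Frame.supp, e0] at this
              simp only [key, if_neg hne, if_neg hne', Prod.mk.injEq] at e
              obtain ⟨ec, -, es⟩ := e
              rw [← ec] at es
              set p := pick (evenWord F h x)
              have hoff : ∀ i, i ≠ p → F.coord h x i = F.coord h x' i := by
                intro i hip
                have e2 := Finset.ext_iff.1 es i
                simp only [mem_erase, mem_filter, mem_univ, true_and, ne_eq, hip,
                  not_false_eq_true] at e2
                have hi := congrFun ec i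
                rcases hv i with ⟨c1, a⟩ | ⟨c1, a | a⟩ <;>
                  rcases hv' i with ⟨c2, a'⟩ | ⟨c2, a' | a'⟩ <;>
                  simp [-Frame.coord_apply, a, a', c1, c2] at e2 hi ⊢
              by_contra hxx
              have hcp : F.coord h x p ≠ F.coord h x' p := fun e' => hxx
                (F.coord_injective h (funext fun i => by
                  by_cases hip : i = p
                  · rw [hip]; exact e'
                  · exact hoff i hip))
              obtain ⟨k, hk, hd⟩ : ∃ k : ℤ, Odd k ∧ F.coord h x p - F.coord h x' p = 4 * k := by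
                have hi := congrFun ec p
                rcases hv p with ⟨c1, a⟩ | ⟨c1, a | a⟩ <;>
                  rcases hv' p with ⟨c2, a'⟩ | ⟨c2, a' | a'⟩ <;>
                  first
                    | exact absurd (a.trans a'.symm) hcp
                    | exact absurd (c1.symm.trans (hi.trans c2)) (by decide)
                    | exact ⟨1, odd_one, by omega⟩
                    | exact ⟨-1, by decide, by omega⟩
              have := F.four_sum h (x := x - x') (a := Pi.single p k) fun i => by
                rw [map_sub, Pi.sub_apply, Pi.single_apply]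
                by_cases hip : i = p
                · rw [if_pos hip, hip, hd]
                · rw [if_neg hip, hoff i hip, sub_self, mul_zero]
              rw [sum_pi_single'] at this
              simp only [mem_univ, if_true] at this
              exact Int.not_even_iff_odd.2 hk this
      _ ≤ 98256 := by
          rw [Set.ncard_coe_finset]
          have := card_union_le T0 T8
          omega
  · rcases {x | b x x = 4 ∧ ¬ ∀ i, (2 : ℤ) ∣ F.coord h x i}.eq_empty_or_nonempty with he | ⟨x₀, hx₀⟩
    · rw [he]; simp
    have odd : ∀ x ∈ {x | b x x = 4 ∧ ¬ ∀ i, (2 : ℤ) ∣ F.coord h x i}, ∃ p, ∀ i,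
        (i = p ∧ (F.coord h x i = 3 ∨ F.coord h x i = -3)) ∨
        (i ≠ p ∧ (F.coord h x i = 1 ∨ F.coord h x i = -1)) := by
      rintro x ⟨hb, hne⟩
      push Not at hne
      obtain ⟨i0, hi0⟩ := hne
      have hodd : ∀ i, ¬ (2 : ℤ) ∣ F.coord h x i := fun i => by
        have := F.parity h x i i0; omega
      have hn := F.eight_norm h x
      rw [hb] at hn
      have hle : ∀ i, F.coord h x i ^ 2 ≤ 32 := fun i => by
        rw [show (32 : ℤ) = 8 * 4 by norm_num, hn]
        exact single_le_sum (f := fun j => F.coord h x j ^ 2) (fun j _ => sq_nonneg _) (mem_univ i)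
      have hv : ∀ i, F.coord h x i = 1 ∨ F.coord h x i = -1 ∨ F.coord h x i = 3 ∨
          F.coord h x i = -3 ∨ F.coord h x i = 5 ∨ F.coord h x i = -5 := fun i => by
        have := hodd i
        have := hle i
        have : -5 ≤ F.coord h x i ∧ F.coord h x i ≤ 5 := by constructor <;> nlinarith
        omega
      have hu : ∑ i, (F.coord h x i ^ 2 - 1) = 8 := by
        rw [sum_sub_distrib, ← hn, sum_const, card_univ, F.card]; norm_num
      obtain ⟨p, hp⟩ : ∃ p, F.coord h x p ^ 2 - 1 ≠ 0 := by
        by_contra hall
        push Not at hall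
        rw [sum_eq_zero fun i _ => hall i] at hu
        norm_num at hu
      have hnn : ∀ i, 0 ≤ F.coord h x i ^ 2 - 1 := fun i => by
        rcases hv i with a | a | a | a | a | a <;> rw [a] <;> norm_num
      have hp8 : 8 ≤ F.coord h x p ^ 2 - 1 := by
        rcases hv p with a | a | a | a | a | a <;> rw [a] at hp ⊢ <;> norm_num at hp <;> norm_num
      rw [← add_sum_erase _ _ (mem_univ p)] at hu
      have hrest := sum_nonneg (s := univ.erase p) fun i _ => hnn i
      refine ⟨p, fun i => ?_⟩
      by_cases hip : i = p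
      · subst hip
        refine Or.inl ⟨rfl, ?_⟩
        rcases hv i with a | a | a | a | a | a <;> rw [a] at hp8 hu <;> norm_num at hp8
        · exact Or.inl a
        · exact Or.inr a
        · omega
        · omega
      · refine Or.inr ⟨hip, ?_⟩
        have h1 : F.coord h x i ^ 2 - 1 ≤ ∑ j ∈ univ.erase p, (F.coord h x j ^ 2 - 1) :=
          single_le_sum (f := fun j => F.coord h x j ^ 2 - 1) (fun j _ => hnn j)
            (mem_erase.2 ⟨hip, mem_univ i⟩)
        have h0 : F.coord h x i ^ 2 - 1 ≤ 0 := by linarith
        rcases hv i with a | a | a | a | a | a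
        · exact Or.inl a
        · exact Or.inr a
        all_goals (rw [a] at h0; norm_num at h0)
    have : Nonempty ι := ⟨o⟩
    choose! pos hpos using odd
    have hC : Fintype (F.code h) := Fintype.ofFinite _
    let key : L → ι × (ι → ZMod 2) := fun x => (pos x, evenWord F h (x - x₀))
    calc _ ≤ ((univ ×ˢ ((F.code h : Set (ι → ZMod 2)).toFinset) : Finset (ι × (ι → ZMod 2))) :
            Set (ι × (ι → ZMod 2))).ncard := by
          refine Set.ncard_le_ncard_of_injOn key (fun x hx => ?_) (fun x hx x' hx' e => ?_)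
            (finite_toSet _)
          · have hev : ∀ i, (2 : ℤ) ∣ F.coord h (x - x₀) i := fun i => by
              rw [map_sub, Pi.sub_apply]
              rcases hpos x hx i with ⟨-, a | a⟩ | ⟨-, a | a⟩ <;>
                rcases hpos x₀ hx₀ i with ⟨-, a' | a'⟩ | ⟨-, a' | a'⟩ <;> omega
            obtain ⟨y, hy⟩ := evenWord_spec F h hev
            simp only [coe_product, coe_univ, Set.coe_toFinset, Set.mem_prod, Set.mem_univ,
              true_and, SetLike.mem_coe, key]
            exact (F.mem_code h).2 ⟨_, y, hy⟩
          · simp only [key, Prod.mk.injEq] at e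
            refine F.coord_injective h (funext fun i => ?_)
            have e2 := congrFun e.2 i
            simp only [evenWord] at e2
            rw [ZMod.intCast_eq_intCast_iff'] at e2
            simp only [map_sub, Pi.sub_apply, Nat.cast_ofNat] at e2
            rcases hpos x hx i with ⟨p1, a | a⟩ | ⟨p1, a | a⟩ <;>
              rcases hpos x' hx' i with ⟨p2, a' | a'⟩ | ⟨p2, a' | a'⟩ <;>
              first
                | exact a.trans a'.symm
                | exact absurd (p1.trans e.1) p2
                | exact absurd (p2.trans e.1.symm) p1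
                | (rcases hpos x₀ hx₀ i with ⟨-, a'' | a''⟩ | ⟨-, a'' | a''⟩ <;> omega)
      _ = 24 * Nat.card (F.code h) := by
          rw [Set.ncard_coe_finset, card_product, card_univ, F.card, Set.toFinset_card,
            Nat.card_eq_fintype_card]
          rfl

/-- Dot products with the words of the code. -/
def dual : (ι → ZMod 2) →ₗ[ZMod 2] Module.Dual (ZMod 2) (F.code h) :=
  LinearMap.mk₂ (ZMod 2) (fun v (c : F.code h) => ∑ i, v i * (c : ι → ZMod 2) i)
    (fun _ _ _ => by simp [add_mul, sum_add_distrib]) (fun _ _ _ => by simp [mul_sum, mul_assoc])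
    (fun _ _ _ => by simp [mul_add, sum_add_distrib])
    (fun _ _ _ => by simp [mul_sum, mul_left_comm])

theorem code_facts :
    Module.finrank (ZMod 2) (F.code h) = 12 ∧ LinearMap.ker (dual F h) = F.code h ∧
      Function.Surjective (dual F h) ∧ ∃ x, ¬ ∀ i, (2 : ℤ) ∣ F.coord h x i := by
  classical
  have hsurj : Function.Surjective (dual F h) := fun φ => by
    obtain ⟨ψ, hψ⟩ := LinearMap.exists_extend φ
    refine ⟨fun i => ψ (Pi.single i 1), LinearMap.ext fun c => ?_⟩
    rw [← hψ, LinearMap.comp_apply, Submodule.subtype_apply]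
    conv_rhs => rw [pi_eq_sum_univ (c : ι → ZMod 2)]
    rw [map_sum]
    refine sum_congr rfl fun i _ => ?_
    rw [map_smul, smul_eq_mul, mul_comm]
    congr 1
    beta_reduce
    congr 1
    funext j
    simp [Pi.single_apply, eq_comm]
  have hle : F.code h ≤ LinearMap.ker (dual F h) := fun c hc =>
    LinearMap.mem_ker.2 (LinearMap.ext fun d => F.self_orth h hc d.2)
  have hd := LinearMap.finrank_range_add_finrank_ker (dual F h)
  rw [LinearMap.range_eq_top.2 hsurj, finrank_top, Subspace.dual_finrank_eq,
    Module.finrank_fintype_fun_eq_card, F.card] at hd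
  have hk := Submodule.finrank_mono hle
  obtain ⟨he, ho⟩ := count_bound F h
  have hsplit : {x | b x x = 4}.ncard ≤ {x | b x x = 4 ∧ ∀ i, (2 : ℤ) ∣ F.coord h x i}.ncard +
      {x | b x x = 4 ∧ ¬ ∀ i, (2 : ℤ) ∣ F.coord h x i}.ncard := by
    refine le_trans (le_of_eq (congrArg Set.ncard (Set.ext fun x => ?_))) (Set.ncard_union_le _ _)
    simp only [Set.mem_union, Set.mem_ofPred_eq]
    tauto
  have h4 := h.four
  rw [mul_one] at h4
  rw [h4] at hsplit
  have hodd : ∃ x, ¬ ∀ i, (2 : ℤ) ∣ F.coord h x i := by
    by_contra hall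
    push Not at hall
    have : {x | b x x = 4 ∧ ¬ ∀ i, (2 : ℤ) ∣ F.coord h x i}.ncard = 0 := by
      rw [Set.eq_empty_of_forall_notMem (s := {x | b x x = 4 ∧ ¬ ∀ i, (2 : ℤ) ∣ F.coord h x i})
        fun x hx => hx.2 (hall x), Set.ncard_empty]
    omega
  have hcard : Nat.card (F.code h) = 2 ^ Module.finrank (ZMod 2) (F.code h) := by
    rw [Module.natCard_eq_pow_finrank (K := ZMod 2), Nat.card_zmod]
  have h12 : Module.finrank (ZMod 2) (F.code h) = 12 := by
    by_contra hne
    have : 2 ^ Module.finrank (ZMod 2) (F.code h) ≤ 2 ^ 11 :=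
      Nat.pow_le_pow_right (by norm_num) (by omega)
    omega
  exact ⟨h12, (Submodule.eq_of_le_of_finrank_le hle (by omega)).symm, hsurj, hodd⟩

/-- Reindexing a frame. -/
def reindex {κ : Type*} [Fintype κ] (e : κ ≃ ι) : Frame κ b where
  f k := F.f (e k)
  self k := F.self _
  ortho i j hij := F.ortho _ _ (e.injective.ne hij)
  congr i j := F.congr _ _
  card := (Fintype.card_congr e).trans F.card

/-- Changing signs in a frame. -/
def flip (s : ι → ZMod 2) : Frame ι b where
  f i := if s i = 1 then -F.f i else F.f i
  self i := by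
    by_cases hs : s i = 1
    · rw [if_pos hs, norm_neg' h, F.self]
    · rw [if_neg hs, F.self]
  ortho i j hij := by
    have h0 := F.ortho i j hij
    have hr : ∀ x y : L, b x (-y) = -b x y := fun x y => by rw [h.symm, form_neg h, h.symm]
    by_cases hi : s i = 1 <;> by_cases hj : s j = 1 <;>
      simp [hi, hj, form_neg h, hr, h0]
  congr i j := by
    obtain ⟨z, hz⟩ := F.congr i j
    rw [sub_eq_iff_eq_add] at hz
    by_cases hi : s i = 1 <;> by_cases hj : s j = 1 <;> simp only [hi, hj, if_true, if_false, hz]
    · exact ⟨-z, by abel⟩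
    · exact ⟨-(z + F.f j), by abel⟩
    · exact ⟨z + F.f j, by abel⟩
    · exact ⟨z, by abel⟩
  card := F.card

theorem coord_flip (s : ι → ZMod 2) (x : L) (i : ι) :
    (flip F h s).coord h x i = if s i = 1 then -F.coord h x i else F.coord h x i := by
  simp only [Frame.coord_apply, flip]
  by_cases hs : s i = 1 <;> simp only [hs, if_true, if_false]
  rw [h.symm, form_neg h, h.symm]

theorem lift_cast {c : ι → ZMod 2} {x x' : L} {y y' : ι → ℤ} (hx : F.IsLift h x c y)
    (hx' : F.IsLift h x' c y') :
    ((∑ i, y i : ℤ) : ZMod 2) = ((∑ i, y' i : ℤ) : ZMod 2) := by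
  rw [← sub_eq_zero, ← Int.cast_sub, ← sum_sub_distrib, ZMod.intCast_zmod_eq_zero_iff_dvd]
  exact even_iff_two_dvd.1
    (F.four_sum h (x := x - x') fun i => by rw [map_sub, Pi.sub_apply, hx i, hx' i]; ring)

theorem exists_straight :
    ∃ s, ∀ c ∈ F.code h, ∃ x y, (flip F h s).IsLift h x c y ∧ Even (∑ i, y i) := by
  classical
  have hex : ∀ c : F.code h, ∃ x y, F.IsLift h x (c : ι → ZMod 2) y := fun c => (F.mem_code h).1 c.2
  choose X Y hXY using hex
  let p : F.code h →+ ZMod 2 := AddMonoidHom.mk' (fun c => ((∑ i, Y c i : ℤ) : ZMod 2)) (by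
    intro c d
    have key : ∀ p q : ZMod 2, ((p + q).val : ℤ) + 2 * (if p = 1 ∧ q = 1 then 1 else 0) =
        (p.val : ℤ) + (q.val : ℤ) := by decide
    rw [lift_cast F h (hXY (c + d)) (x' := X c + X d) (y' := fun i => Y c i + Y d i +
      (if (c : ι → ZMod 2) i = 1 ∧ (d : ι → ZMod 2) i = 1 then 1 else 0)) fun i => by
        rw [map_add, Pi.add_apply, hXY c i, hXY d i, Submodule.coe_add, Pi.add_apply]
        linarith [key ((c : ι → ZMod 2) i) ((d : ι → ZMod 2) i)]]
    push_cast [sum_add_distrib]
    have hkey : ∀ p q : ZMod 2, (if p = 1 ∧ q = 1 then (1 : ZMod 2) else 0) = p * q := by decide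
    simp only [hkey, F.self_orth h c.2 d.2, add_zero])
  obtain ⟨s, hs⟩ := (code_facts F h).2.2.1 (p.toZModLinearMap 2)
  refine ⟨s, fun c hc => ⟨X ⟨c, hc⟩, fun i =>
    if s i = 1 then -((c i).val : ℤ) - Y ⟨c, hc⟩ i else Y ⟨c, hc⟩ i, fun i => ?_, ?_⟩⟩
  · have e := hXY ⟨c, hc⟩ i
    rw [coord_flip]
    by_cases hsi : s i = 1 <;> simp only [hsi, if_true, if_false, e]
    ring
  · rw [even_iff_two_dvd]
    refine (ZMod.intCast_zmod_eq_zero_iff_dvd _ 2).1 ?_
    have hsum : ((∑ i, (if s i = 1 then -((c i).val : ℤ) - Y ⟨c, hc⟩ i else Y ⟨c, hc⟩ i) : ℤ) :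
        ZMod 2) = (∑ i, s i * c i) + ((∑ i, Y ⟨c, hc⟩ i : ℤ) : ZMod 2) := by
      rw [Int.cast_sum, Int.cast_sum, ← sum_add_distrib]
      refine sum_congr rfl fun i _ => ?_
      have h2 : ∀ a t : ZMod 2, -a - t = 1 * a + t := by decide
      rcases zmod2_cases (s i) with e | e
      · simp [e]
      · rw [if_pos e, e, Int.cast_sub, Int.cast_neg, cast_val, h2]
    rw [hsum, show (∑ i, s i * c i) = (dual F h s) ⟨c, hc⟩ from rfl, hs]
    show p ⟨c, hc⟩ + p ⟨c, hc⟩ = 0
    exact CharTwo.add_self_eq_zero _

theorem exists_equiv (h : Shells L 1 b) :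
    ∃ f : L ≃+ leechLattice, ∀ x, sqNorm ((f x : leechLattice) : GolayPt → ℤ) = 8 * b x x := by
  classical
  obtain ⟨F₁⟩ := exists_frame h
  obtain ⟨h12, hker, -, -⟩ := code_facts F₁ h
  have hsupp : ∀ w : Fin 24 → ZMod 2, hammingNorm w = (Frame.supp w).card := fun w => by
    simp only [hammingNorm, Frame.supp]
    refine congrArg Finset.card (filter_congr fun i _ => ?_)
    rcases zmod2_cases (w i) with e | e <;> simp [e]
  obtain ⟨e, he⟩ := Cfsg.Agent.S0375.result (F₁.code h) h12
    (fun v hv w hw => F₁.self_orth h hv hw)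
    (fun w hw => by
      by_cases hw0 : w = 0
      · simp [hw0]
      · rw [hsupp]; exact (F₁.weight h hw hw0).1)
    (fun w hw => by
      by_cases hw0 : w = 0
      · simp [hw0]
      · rw [hsupp]; have := (F₁.weight h hw hw0).2; omega)
  set F₂ := reindex F₁ e.symm
  have hgol : ∀ c ∈ golayCode, c ∈ F₂.code h := by
    intro c hc
    obtain ⟨x, y, hx⟩ := (F₁.mem_code h).1 ((he c).1 hc)
    refine (F₂.mem_code h).2 ⟨x, fun k => y (e.symm k), fun k => ?_⟩
    have := hx (e.symm k)
    beta_reduce at this
    rwa [Equiv.apply_symm_apply] at this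
  obtain ⟨s, hs⟩ := exists_straight F₂ h
  set G := flip F₂ h s
  obtain ⟨hG12, hGker, -, ⟨u₀, hu₀⟩⟩ := code_facts G h
  have hcode : G.code h = golayCode := by
    refine (Submodule.eq_of_le_of_finrank_le (fun c hc => ?_) ?_).symm
    · obtain ⟨x, y, hx, -⟩ := hs c (hgol c hc)
      exact (G.mem_code h).2 ⟨x, y, hx⟩
    · rw [hG12, Cfsg.Agent.Golay.Design.finrank_golayCode]
  have hlift : ∀ c ∈ golayCode, ∃ x y, G.IsLift h x c y ∧ Even (∑ i, y i) := fun c hc =>
    hs c (hgol c hc)
  have hind : ∀ (c : GolayPt → ZMod 2) i, Basic.ind (support₂ c) i = ((c i).val : ℤ) := by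
    intro c i
    rcases zmod2_cases (c i) with e' | e' <;>
      simp [Basic.ind, support₂, e', ZMod.val_one, -ZMod.natCast_val]
  have hcard : ∀ c : GolayPt → ZMod 2, ∑ i, ((c i).val : ℤ) = ((support₂ c).card : ℤ) := by
    intro c
    rw [← Basic.sum_ind]
    exact sum_congr rfl fun i _ => (hind c i).symm
  have hsub : ∀ x, G.coord h x ∈ leechLattice := by
    intro x
    by_cases hev : ∀ i, (2 : ℤ) ∣ G.coord h x i
    · obtain ⟨y, hy⟩ := evenWord_spec G h hev
      have hc : evenWord G h x ∈ golayCode := hcode ▸ (G.mem_code h).2 ⟨x, y, hy⟩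
      obtain ⟨x', y', hx', he'⟩ := hlift _ hc
      have hye := (G.lift_parity h hy hx').2 he'
      refine Basic.mem_lattice_iff.2 ⟨0, support₂ (evenWord G h x), y, Or.inl rfl,
        ⟨_, hc, rfl⟩, fun i => by rw [hind, zero_add]; exact hy i, ?_⟩
      have h4 := Basic.four_dvd_card (c := support₂ (evenWord G h x)) ⟨_, hc, rfl⟩
      have hye' := even_iff_two_dvd.1 hye
      rw [sum_congr rfl (fun i _ => hy i), sum_add_distrib, ← mul_sum, ← mul_sum, hcard]
      omega
    · push Not at hev
      obtain ⟨i0, hi0⟩ := hev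
      have hodd : ∀ i, ¬ (2 : ℤ) ∣ G.coord h x i := fun i => by
        have := G.parity h x i i0; omega
      set d : GolayPt → ZMod 2 := fun i => (((G.coord h x i - 1) / 2 : ℤ) : ZMod 2) with hd
      obtain ⟨y, hy⟩ : ∃ y : GolayPt → ℤ, ∀ i,
          G.coord h x i = 1 + 2 * ((d i).val : ℤ) + 4 * y i := by
        refine ⟨fun i => ((G.coord h x i - 1) / 2 - ((d i).val : ℤ)) / 2, fun i => ?_⟩
        have h2 : (2 : ℤ) ∣ (G.coord h x i - 1) / 2 - ((d i).val : ℤ) := by
          refine (ZMod.intCast_zmod_eq_zero_iff_dvd _ 2).1 ?_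
          rw [Int.cast_sub, cast_val]
          exact sub_self _
        have := hodd i
        beta_reduce
        omega
      have hdC : d ∈ golayCode := by
        rw [← hcode, ← hGker, LinearMap.mem_ker]
        refine LinearMap.ext fun c => ?_
        have hc : (c : GolayPt → ZMod 2) ∈ golayCode := hcode ▸ c.2
        obtain ⟨x', y', hx', he'⟩ := hlift _ hc
        have h1 := G.eight_form h x x'
        simp only [hy _, hx' _] at h1
        have h4 := Basic.four_dvd_card (c := support₂ (c : GolayPt → ZMod 2)) ⟨_, hc, rfl⟩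
        have h2 : (2 : ℤ) ∣ ∑ i, ((d i).val : ℤ) * (((c : GolayPt → ZMod 2) i).val : ℤ) := by
          have : ∑ i, (1 + 2 * ((d i).val : ℤ) + 4 * y i) *
              (2 * (((c : GolayPt → ZMod 2) i).val : ℤ) + 4 * y' i) =
              2 * ∑ i, (((c : GolayPt → ZMod 2) i).val : ℤ) + 4 * ∑ i, y' i +
              4 * ∑ i, ((d i).val : ℤ) * (((c : GolayPt → ZMod 2) i).val : ℤ) +
              8 * ∑ i, (((d i).val : ℤ) * y' i + y i * (((c : GolayPt → ZMod 2) i).val : ℤ) +
                2 * (y i * y' i)) := by
            simp only [mul_sum, ← sum_add_distrib]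
            exact sum_congr rfl fun i _ => by ring
          rw [this, hcard] at h1
          have he'' := even_iff_two_dvd.1 he'
          omega
        have h3 : ((∑ i, ((d i).val : ℤ) * (((c : GolayPt → ZMod 2) i).val : ℤ) : ℤ) : ZMod 2) = 0 :=
          (ZMod.intCast_zmod_eq_zero_iff_dvd _ 2).2 h2
        rw [Int.cast_sum] at h3
        simp only [Int.cast_mul, cast_val] at h3
        exact h3
      refine Basic.mem_lattice_iff.2 ⟨1, support₂ d, y, Or.inr rfl, ⟨d, hdC, rfl⟩,
        fun i => by rw [hind]; exact hy i, ?_⟩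
      have h4 := Basic.four_dvd_card (c := support₂ d) ⟨_, hdC, rfl⟩
      have hn := G.eight_norm h x
      obtain ⟨k, hk⟩ := h.even x
      have hsq : ∀ i, G.coord h x i ^ 2 = 1 + 8 * ((d i).val : ℤ) + 8 * y i +
          16 * (((d i).val : ℤ) * y i + y i ^ 2) := fun i => by
        rw [hy i]
        rcases zmod2_cases (d i) with e' | e' <;> simp only [e', ZMod.val_zero, ZMod.val_one] <;>
          push_cast <;> ring
      rw [sum_congr rfl (fun i _ => hsq i), sum_add_distrib, sum_add_distrib, sum_add_distrib,
        ← mul_sum, ← mul_sum, ← mul_sum, hcard, sum_const, card_univ, G.card, hk] at hn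
      rw [sum_congr rfl (fun i _ => hy i), sum_add_distrib, sum_add_distrib, ← mul_sum, ← mul_sum,
        hcard, sum_const, card_univ, G.card]
      simp only [nsmul_eq_mul, Nat.cast_ofNat, mul_one] at hn ⊢
      omega
  have heven : ∀ v ∈ leechLattice, (2 : ℤ) ∣ v none → ∃ x, G.coord h x = v := by
    intro v hv hp
    obtain ⟨m, c, y, hm, hc, hvi, hsum⟩ := Basic.mem_lattice_iff.1 hv
    have hm0 : m = 0 := by have := hvi none; omega
    subst hm0
    obtain ⟨w, hw, rfl⟩ := hc
    obtain ⟨x', y', hx', he'⟩ := hlift w hw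
    have h4 := Basic.four_dvd_card (c := support₂ w) ⟨_, hw, rfl⟩
    have he'' := even_iff_two_dvd.1 he'
    obtain ⟨u, hu⟩ := G.four_even h (a := y - y') (by
      rw [even_iff_two_dvd]
      simp only [Pi.sub_apply, sum_sub_distrib]
      rw [sum_congr rfl (fun i _ => hvi i), sum_add_distrib, sum_add_distrib, ← mul_sum, ← mul_sum,
        sum_const, smul_zero, zero_add, Basic.sum_ind] at hsum
      omega)
    refine ⟨x' + u, funext fun i => ?_⟩
    rw [map_add, Pi.add_apply, hx' i, hu i, hvi i, hind, Pi.sub_apply]
    ring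
  have hsurj : ∀ v ∈ leechLattice, ∃ x, G.coord h x = v := by
    intro v hv
    by_cases hp : (2 : ℤ) ∣ v none
    · exact heven v hv hp
    · have hu : ¬ (2 : ℤ) ∣ G.coord h u₀ none := fun hd => hu₀ fun i => by
        have := G.parity h u₀ i none; omega
      obtain ⟨x, hx⟩ := heven (v - G.coord h u₀) (sub_mem hv (hsub u₀))
        (by simp only [Pi.sub_apply]; omega)
      exact ⟨x + u₀, by rw [map_add, hx, sub_add_cancel]⟩
  refine ⟨AddEquiv.ofBijective ((G.coord h).codRestrict leechLattice hsub)
    ⟨fun a a' e' => G.coord_injective h (congrArg Subtype.val e'), fun v => ?_⟩, fun x => ?_⟩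
  · obtain ⟨x, hx⟩ := hsurj v v.2
    exact ⟨x, Subtype.ext hx⟩
  · exact (G.eight_norm h x).symm

end Cfsg.Agent.Leech.Char
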