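import Mathlib

/-!
Classes modulo 2 of a rank-24 lattice without roots having the shells of the Leech lattice.
-/

set_option autoImplicit false

namespace Cfsg.Agent.Leech.Classes

open Finset

/-- The hypotheses: a form `b` of scale `s` with minimum `4 s`, even, with the three shells, with
`2^24` classes modulo 2, in which orthogonal families have at most 24 members. -/
structure Shells (L : Type*) [AddCommGroup L] (s : ℤ) (b : L → L → ℤ) : Prop where
  spos : 0 < s
  add_left : ∀ x y z, b (x + y) z = b x z + b y z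
  symm : ∀ x y, b x y = b y x
  torsion : ∀ z : L, z + z = 0 → z = 0
  min : ∀ x, x ≠ 0 → 4 * s ≤ b x x
  even : ∀ x, 2 * s ∣ b x x
  four : {x | b x x = 4 * s}.ncard = 196560
  six : {x | b x x = 6 * s}.ncard = 16773120
  eight : {x | b x x = 8 * s}.ncard = 398034000
  classes : (nsmulAddMonoidHom (α := L) 2).range.index = 2 ^ 24
  orth : ∀ T : Finset L, (∀ x ∈ T, x ≠ 0) → (∀ x ∈ T, ∀ y ∈ T, x ≠ y → b x y = 0) → T.card ≤ 24

variable {L : Type*} [AddCommGroup L] {s : ℤ} {b : L → L → ℤ}

theorem form_zero (h : Shells L s b) (x : L) : b 0 x = 0 := by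
  have := h.add_left 0 0 x
  rw [add_zero] at this
  omega

theorem norm_add (h : Shells L s b) (x y : L) : b (x + y) (x + y) = b x x + 2 * b x y + b y y := by
  rw [h.add_left, h.symm x (x + y), h.symm y (x + y), h.add_left, h.add_left, h.symm y x]
  ring

theorem form_neg (h : Shells L s b) (x y : L) : b (-x) y = -b x y := by
  have := h.add_left x (-x) y
  rw [add_neg_cancel, form_zero h] at this
  omega

theorem norm_neg' (h : Shells L s b) (x : L) : b (-x) (-x) = b x x := by
  rw [form_neg h, h.symm, form_neg h, neg_neg]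

theorem congr_short (h : Shells L s b) {x y : L} (hx : b x x ≤ 8 * s) (hy : b y y ≤ 8 * s)
    {z : L} (hz : x - y = z + z) :
    y = x ∨ y = -x ∨ (b x y = 0 ∧ b x x = 8 * s ∧ b y y = 8 * s) := by
  by_cases h1 : z = 0
  · left
    rw [h1, add_zero, sub_eq_zero] at hz
    exact hz.symm
  by_cases h2 : z + y = 0
  · right; left
    have e : z = -y := eq_neg_of_add_eq_zero_left h2
    rw [e, sub_eq_iff_eq_add] at hz
    rw [hz]
    abel
  right; right
  have hx' : x = z + (z + y) := by rw [← add_assoc, ← hz, sub_add_cancel]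
  have e1 := norm_add h z (z + y)
  rw [← hx'] at e1
  have e2 := norm_add h z y
  have m1 := h.min z h1
  have m2 := h.min (z + y) h2
  have e3 : b z (z + y) = b z z + b z y := by rw [h.symm, h.add_left, h.symm y z]
  have hxy : b x y = 2 * b z y + b y y := by
    conv_lhs => rw [hx']
    rw [h.add_left, h.add_left]; ring
  have hs := h.spos
  refine ⟨by linarith, by linarith, by linarith⟩

/-- The class of a vector. -/
def cls (x : L) : L ⧸ (nsmulAddMonoidHom (α := L) 2).range := QuotientAddGroup.mk x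

theorem cls_eq_iff {x y : L} : cls x = cls y ↔ ∃ z, x - y = z + z := by
  rw [cls, cls, QuotientAddGroup.eq_iff_sub_mem]
  constructor
  · rintro ⟨z, hz⟩; exact ⟨z, by rw [← hz]; exact (two_nsmul z)⟩
  · rintro ⟨z, hz⟩; exact ⟨z, by rw [hz]; exact (two_nsmul z)⟩

theorem cls_neg (x : L) : cls (-x) = cls x := cls_eq_iff.2 ⟨-x, by abel⟩

theorem shell_finite {a : ℤ} {n : ℕ} (hn : 0 < n) (h : {x : L | b x x = a}.ncard = n) :
    {x : L | b x x = a}.Finite := Set.finite_of_ncard_pos (h ▸ hn)

theorem ne_zero_of_norm (h : Shells L s b) {a : ℤ} (ha : 0 < a) {x : L} (hx : b x x = a * s) :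
    x ≠ 0 := by
  rintro rfl
  rw [form_zero h] at hx
  have := mul_pos ha h.spos
  omega

theorem eight_fibre_le (h : Shells L s b) (F : Finset L) (hF : ∀ x ∈ F, b x x = 8 * s)
    (hc : ∀ x ∈ F, ∀ y ∈ F, cls x = cls y) : F.card ≤ 48 := by
  classical
  suffices ∃ T : Finset L, T ⊆ F ∧ F ⊆ T ∪ T.image (fun x => -x) ∧
      ∀ x ∈ T, ∀ y ∈ T, x ≠ y → y ≠ -x by
    obtain ⟨T, hTF, hFT, hT⟩ := this
    have h24 := h.orth T (fun x hx => ne_zero_of_norm h (by norm_num) (hF x (hTF hx)))
      fun x hx y hy hne => by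
        obtain ⟨z, hz⟩ := cls_eq_iff.1 (hc x (hTF hx) y (hTF hy))
        rcases congr_short h (hF x (hTF hx)).le (hF y (hTF hy)).le hz with e | e | e
        · exact absurd e.symm hne
        · exact absurd e (hT x hx y hy hne)
        · exact e.1
    have := card_le_card hFT
    have := card_union_le T (T.image fun x => -x)
    have := card_image_le (s := T) (f := fun x => -x)
    omega
  clear hc
  induction F using Finset.induction_on with
  | empty => exact ⟨∅, by simp, by simp, by simp⟩
  | @insert a F ha ih =>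
    obtain ⟨T, hTF, hFT, hT⟩ := ih fun x hx => hF x (mem_insert_of_mem hx)
    by_cases hmem : -a ∈ T
    · refine ⟨T, hTF.trans (subset_insert _ _), insert_subset_iff.2 ⟨?_, hFT⟩, hT⟩
      exact mem_union_right _ (mem_image.2 ⟨-a, hmem, neg_neg a⟩)
    · refine ⟨insert a T, insert_subset_insert _ hTF, insert_subset_iff.2 ⟨by simp, ?_⟩, ?_⟩
      · exact hFT.trans (union_subset_union (subset_insert _ _) (image_subset_image (subset_insert _ _)))
      · intro x hx y hy hne e
        rcases mem_insert.1 hx with hxa | hx <;> rcases mem_insert.1 hy with hya | hy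
        · exact hne (hxa.trans hya.symm)
        · exact hmem (hxa ▸ (e ▸ hy : -x ∈ T))
        · exact hmem (by rw [← hya, e, neg_neg]; exact hx)
        · exact hT x hx y hy hne e

theorem short_eq_of_cls (h : Shells L s b) {x y : L} (hx : b x x ≤ 6 * s) (hy : b y y ≤ 8 * s)
    (hc : cls y = cls x) : y = x ∨ y = -x := by
  obtain ⟨z, hz⟩ := cls_eq_iff.1 hc.symm
  have hs := h.spos
  rcases congr_short h (by linarith) hy hz with e | e | e
  · exact Or.inl e
  · exact Or.inr e
  · linarith [e.2.1]

theorem class_count (h : Shells L s b) :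
    (∀ q, ∃ x, b x x ≤ 8 * s ∧ cls x = q) ∧
    ∀ x, b x x = 8 * s → {y | b y y = 8 * s ∧ cls x = cls y}.ncard = 48 := by
  classical
  have hfin : Finite (L ⧸ (nsmulAddMonoidHom (α := L) 2).range) :=
    AddSubgroup.finiteIndex_iff_finite_quotient.1 ⟨by rw [h.classes]; norm_num⟩
  letI := Fintype.ofFinite (L ⧸ (nsmulAddMonoidHom (α := L) 2).range)
  have hQ : (univ : Finset (L ⧸ (nsmulAddMonoidHom (α := L) 2).range)).card = 2 ^ 24 := by
    rw [card_univ, ← Nat.card_eq_fintype_card]; exact h.classes
  set F4 := (shell_finite (by norm_num) h.four).toFinset with hF4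
  set F6 := (shell_finite (by norm_num) h.six).toFinset with hF6
  set F8 := (shell_finite (by norm_num) h.eight).toFinset with hF8
  have m4 : ∀ x, x ∈ F4 ↔ b x x = 4 * s := fun x => Set.Finite.mem_toFinset _
  have m6 : ∀ x, x ∈ F6 ↔ b x x = 6 * s := fun x => Set.Finite.mem_toFinset _
  have m8 : ∀ x, x ∈ F8 ↔ b x x = 8 * s := fun x => Set.Finite.mem_toFinset _
  have c4 : F4.card = 196560 := (Set.ncard_eq_toFinset_card _ _).symm.trans h.four
  have c6 : F6.card = 16773120 := (Set.ncard_eq_toFinset_card _ _).symm.trans h.six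
  have c8 : F8.card = 398034000 := (Set.ncard_eq_toFinset_card _ _).symm.trans h.eight
  have hs := h.spos
  have pairs : ∀ (a : ℤ) (F : Finset L), a ≤ 6 → (∀ x ∈ F, b x x = a * s) → F.card ≤ 2 * (F.image cls).card := by
    intro a F ha hF
    rw [mul_comm, ← smul_eq_mul, ← sum_const, card_eq_sum_card_image cls F]
    refine sum_le_sum fun q hq => ?_
    obtain ⟨x, hx, rfl⟩ := mem_image.1 hq
    refine (card_le_card (t := {x, -x}) fun y hy => ?_).trans card_le_two
    obtain ⟨hy, hc⟩ := mem_filter.1 hy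
    have hle : a * s ≤ 6 * s := mul_le_mul_of_nonneg_right ha hs.le
    have h1 := hF x hx
    have h2 := hF y hy
    simpa using short_eq_of_cls h (by linarith) (by linarith) hc
  have hf8 : ∀ q ∈ F8.image cls, (F8.filter fun y => cls y = q).card ≤ 48 := fun q _ =>
    eight_fibre_le h _ (fun x hx => (m8 x).1 (mem_filter.1 hx).1)
      fun x hx y hy => (mem_filter.1 hx).2.trans (mem_filter.1 hy).2.symm
  set U := insert (cls 0) (F4.image cls ∪ F6.image cls ∪ F8.image cls) with hU
  have d46 : Disjoint (F4.image cls) (F6.image cls) := by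
    rw [disjoint_left]
    intro q h1 h2
    obtain ⟨x, hx, rfl⟩ := mem_image.1 h1
    obtain ⟨y, hy, hc⟩ := mem_image.1 h2
    rw [m4] at hx; rw [m6] at hy
    rcases short_eq_of_cls h (by linarith) (by linarith) hc with rfl | rfl
    · linarith
    · rw [norm_neg' h] at hy; linarith
  have d8 : Disjoint (F4.image cls ∪ F6.image cls) (F8.image cls) := by
    rw [disjoint_left]
    intro q h1 h2
    obtain ⟨y, hy, hc⟩ := mem_image.1 h2
    rw [m8] at hy
    rcases mem_union.1 h1 with h1 | h1 <;> obtain ⟨x, hx, rfl⟩ := mem_image.1 h1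
    · rw [m4] at hx
      rcases short_eq_of_cls h (by linarith) (by linarith) hc with rfl | rfl
      · linarith
      · rw [norm_neg' h] at hy; linarith
    · rw [m6] at hx
      rcases short_eq_of_cls h (by linarith) (by linarith) hc with rfl | rfl
      · linarith
      · rw [norm_neg' h] at hy; linarith
  have d0 : cls 0 ∉ F4.image cls ∪ F6.image cls ∪ F8.image cls := by
    intro hm
    simp only [mem_union, mem_image] at hm
    have h0 := form_zero h 0
    obtain ⟨y, hy, hc⟩ : ∃ y, (0 < b y y ∧ b y y ≤ 8 * s) ∧ cls y = cls 0 := by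
      rcases hm with (⟨y, hy, e⟩ | ⟨y, hy, e⟩) | ⟨y, hy, e⟩
      · exact ⟨y, by rw [m4] at hy; constructor <;> linarith, e⟩
      · exact ⟨y, by rw [m6] at hy; constructor <;> linarith, e⟩
      · exact ⟨y, by rw [m8] at hy; constructor <;> linarith, e⟩
    rcases short_eq_of_cls h (by linarith) hy.2 hc with rfl | rfl
    · linarith [hy.1]
    · rw [norm_neg' h] at hy; linarith [hy.1]
  have hUcard : U.card =
      (F4.image cls).card + (F6.image cls).card + (F8.image cls).card + 1 := by
    rw [hU, card_insert_of_notMem d0, card_union_of_disjoint d8, card_union_of_disjoint d46]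
  have hUle : U.card ≤ 2 ^ 24 := hQ ▸ card_le_univ U
  have p4 := pairs 4 F4 (by norm_num) fun x hx => (m4 x).1 hx
  have p6 := pairs 6 F6 (by norm_num) fun x hx => (m6 x).1 hx
  have p8 := card_eq_sum_card_image cls F8
  have q8 : ∑ q ∈ F8.image cls, (F8.filter fun y => cls y = q).card ≤ ∑ _q ∈ F8.image cls, 48 :=
    sum_le_sum hf8
  rw [sum_const, smul_eq_mul] at q8
  have e8 : (F8.image cls).card = 8292375 := by omega
  have eU : U = univ := eq_univ_of_card _ (by rw [hUcard, ← card_univ, hQ]; omega)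
  refine ⟨fun q => ?_, fun x hx => ?_⟩
  · have hq : q ∈ U := eU ▸ mem_univ q
    simp only [hU, mem_insert, mem_union, mem_image] at hq
    rcases hq with rfl | (⟨y, hy, e⟩ | ⟨y, hy, e⟩) | ⟨y, hy, e⟩
    · exact ⟨0, by rw [form_zero h]; linarith, rfl⟩
    · exact ⟨y, by rw [(m4 y).1 hy]; linarith, e⟩
    · exact ⟨y, by rw [(m6 y).1 hy]; linarith, e⟩
    · exact ⟨y, by rw [(m8 y).1 hy], e⟩
  · have hall : ∀ q ∈ F8.image cls, (F8.filter fun y => cls y = q).card = 48 := by
      refine (sum_eq_sum_iff_of_le hf8).1 ?_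
      rw [← p8, c8, sum_const, e8, smul_eq_mul]
    rw [← hall (cls x) (mem_image_of_mem _ ((m8 x).2 hx)), ← Set.ncard_coe_finset]
    refine congrArg Set.ncard (Set.ext fun y => ?_)
    simp [m8, eq_comm]

end Cfsg.Agent.Leech.Classes
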