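import Cfsg.Agent.Lib.Leech.Basic

/-!
Counting lattice vectors of small norm: for each parity and code word the count is a coefficient
of a generating function, evaluated by Kronecker substitution at `2^64`.
-/

set_option autoImplicit false
set_option maxRecDepth 10000

namespace Cfsg.Agent.Leech.Count

open Cfsg Cfsg.Agent.Golay.Basic Cfsg.Agent.Golay.Design Cfsg.Agent.Leech.Basic Finset

/-- The base of the substitution. -/
def base : ℕ := 2 ^ 64

attribute [local irreducible] base

/-- The coefficient of a substituted generating function. -/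
theorem coeff_eq {β : Type*} (S : Finset β) (W : β → ℕ) (e : ℕ) (hS : S.card < base) :
    (∑ x ∈ S, base ^ W x) / base ^ e % base = (S.filter fun x => W x = e).card := by
  classical
  have hB : 0 < base := by unfold base; norm_num
  have hdiv : ∀ x ∈ S.filter (fun x => e < W x), base ^ (e + 1) ∣ base ^ W x := fun x hx =>
    pow_dvd_pow _ (mem_filter.1 hx).2
  have hlow : ∑ x ∈ S.filter (fun x => W x < e), base ^ W x < base ^ e := by
    rcases Nat.eq_zero_or_pos e with rfl | he
    · simp
    calc ∑ x ∈ S.filter (fun x => W x < e), base ^ W x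
        ≤ ∑ _x ∈ S.filter (fun x => W x < e), base ^ (e - 1) :=
          sum_le_sum fun x hx => Nat.pow_le_pow_right hB (by have := (mem_filter.1 hx).2; omega)
      _ = (S.filter (fun x => W x < e)).card * base ^ (e - 1) := by simp
      _ < base * base ^ (e - 1) := Nat.mul_lt_mul_of_pos_right
          (lt_of_le_of_lt (card_filter_le _ _) hS) (pow_pos hB _)
      _ = base ^ e := by rw [← pow_succ']; congr 1; omega
  obtain ⟨k, hk⟩ := dvd_sum hdiv
  have heq : ∑ x ∈ S.filter (fun x => W x = e), base ^ W x =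
      base ^ e * (S.filter fun x => W x = e).card := by
    rw [sum_congr rfl fun x hx => by rw [(mem_filter.1 hx).2], sum_const, smul_eq_mul, mul_comm]
  have hsplit : ∑ x ∈ S, base ^ W x = (∑ x ∈ S.filter (fun x => W x < e), base ^ W x) +
      base ^ e * ((S.filter fun x => W x = e).card + base * k) := by
    rw [mul_add, ← heq, ← mul_assoc, ← pow_succ, ← hk]
    simp only [sum_filter, ← sum_add_distrib]
    refine sum_congr rfl fun x _ => ?_
    rcases lt_trichotomy (W x) e with h | h | h
    · simp [h, h.ne, h.le.not_gt]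
    · simp [h]
    · simp [h, h.ne', h.le.not_gt]
  rw [hsplit, Nat.add_mul_div_left _ _ (pow_pos hB _), Nat.div_eq_of_lt hlow, Nat.zero_add,
    Nat.add_mul_mod_self_left, Nat.mod_eq_of_lt (lt_of_le_of_lt (card_filter_le _ _) hS)]

/-- Coefficient of a product over the points. -/
theorem coeff_pi (f : GolayPt → Finset ℤ) (w : GolayPt → ℤ → ℕ) (e : ℕ)
    (hf : ∀ i, (f i).card ≤ 5) :
    (∏ i, ∑ a ∈ f i, base ^ w i a) / base ^ e % base =
      ((Fintype.piFinset f).filter fun x => ∑ i, w i (x i) = e).card := by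
  have hS : (Fintype.piFinset f).card < base := by
    rw [Fintype.card_piFinset]
    refine lt_of_le_of_lt (prod_le_prod (fun _ _ => Nat.zero_le _) fun i _ => hf i) ?_
    rw [prod_const, card_univ, show Fintype.card GolayPt = 24 by decide]
    unfold base
    norm_num
  rw [prod_univ_sum]
  simp only [prod_pow_eq_pow_sum]
  exact coeff_eq _ _ _ hS

/-- The weight of a coordinate value: square and residue modulo 8. -/
def wt (a : ℤ) : ℕ := a.natAbs ^ 2 * 256 + (a % 8).toNat

/-- The values allowed at a coordinate. -/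
def opts (allowed : ℤ → Bool) (N : ℕ) (r : ℤ) : List ℤ :=
  ([-8, -7, -6, -5, -4, -3, -2, -1, 0, 1, 2, 3, 4, 5, 6, 7, 8] : List ℤ).filter fun a =>
    a % 4 == r % 4 && decide (a.natAbs ^ 2 ≤ N) && allowed a

/-- The generating polynomial of one coordinate. -/
def coordPoly (L : List ℤ) : ℕ := (L.map fun a => base ^ wt a).sum

/-- The count for parity `m` and code words of weight `k`. -/
def fiberCount (allowed : ℤ → Bool) (N : ℕ) (m : ℤ) (k : ℕ) : ℕ :=
  let P := coordPoly (opts allowed N (m + 2)) ^ k * coordPoly (opts allowed N m) ^ (24 - k)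
  ((List.range 22).map fun j => P / base ^ (N * 256 + (4 * m).toNat + 8 * j) % base).sum

/-- Sum over parities and code weights. -/
def totalOf (F : ℤ → ℕ → ℕ) : ℕ :=
  1 * (F 0 0 + F 1 0) + (759 * (F 0 8 + F 1 8) + (2576 * (F 0 12 + F 1 12) +
    (759 * (F 0 16 + F 1 16) + 1 * (F 0 24 + F 1 24))))

/-- The total count. -/
def totalCount (allowed : ℤ → Bool) (N : ℕ) : ℕ := totalOf (fiberCount allowed N)

theorem opts_nodup (allowed : ℤ → Bool) (N : ℕ) (r : ℤ) : (opts allowed N r).Nodup :=
  (by decide : ([-8, -7, -6, -5, -4, -3, -2, -1, 0, 1, 2, 3, 4, 5, 6, 7, 8] : List ℤ).Nodup).filter _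

theorem opts_length (allowed : ℤ → Bool) (N : ℕ) (r : ℤ) : (opts allowed N r).length ≤ 5 := by
  have hs : (opts allowed N r).length ≤
      (([-8, -7, -6, -5, -4, -3, -2, -1, 0, 1, 2, 3, 4, 5, 6, 7, 8] : List ℤ).filter
        fun a => a % 4 == r % 4).length := by
    refine List.Sublist.length_le (List.monotone_filter_right _ fun a h => ?_)
    simp only [Bool.and_eq_true] at h
    exact h.1.1
  refine hs.trans ?_
  rcases (by omega : r % 4 = 0 ∨ r % 4 = 1 ∨ r % 4 = 2 ∨ r % 4 = 3) with h | h | h | h <;> rw [h] <;>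
    decide

theorem mem_opts {allowed : ℤ → Bool} {N : ℕ} (hN : N ≤ 64) {r a : ℤ} :
    a ∈ opts allowed N r ↔ a % 4 = r % 4 ∧ a.natAbs ^ 2 ≤ N ∧ allowed a = true := by
  simp only [opts, List.mem_filter, Bool.and_eq_true, beq_iff_eq, decide_eq_true_eq, and_assoc]
  refine ⟨fun h => h.2, fun h => ⟨?_, h⟩⟩
  have h8 : a.natAbs ≤ 8 := by nlinarith [h.2.1]
  have h1 : -8 ≤ a := by omega
  have h2 : a ≤ 8 := by omega
  interval_cases a <;> decide

/-- The code word of a lattice vector. -/
def classOf (x : GolayPt → ℤ) : Finset GolayPt :=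
  univ.filter fun i => x i % 4 = (x none % 2 + 2) % 4

theorem shape_unique {x : GolayPt → ℤ} {m : ℤ} {c : Finset GolayPt} {y : GolayPt → ℤ}
    (h : Shape x m c y) : x none % 2 = m ∧ classOf x = c := by
  obtain ⟨hm, -, hx, -⟩ := h
  have hn := hx none
  have h2 : x none % 2 = m := by omega
  refine ⟨h2, ?_⟩
  ext i
  have := hx i
  simp only [classOf, mem_filter, mem_univ, true_and, h2]
  by_cases hi : i ∈ c <;> simp only [ind, hi, if_true, if_false, iff_true, iff_false] at this ⊢ <;>
    omega

theorem wt_sum {x : GolayPt → ℤ} (hb : ∀ i, (x i).natAbs ≤ 8) :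
    (((∑ i, wt (x i)) / 256 : ℕ) : ℤ) = sqNorm x ∧
      ((((∑ i, wt (x i)) % 256 : ℕ) : ℤ)) % 8 = (∑ i, x i) % 8 ∧
      (∑ i, wt (x i)) % 256 ≤ 168 := by
  have hsum : ∑ i, wt (x i) = (∑ i, (x i).natAbs ^ 2) * 256 + ∑ i, (x i % 8).toNat := by
    simp only [wt, sum_add_distrib, sum_mul]
  have hle : ∑ i, (x i % 8).toNat ≤ 168 := by
    refine (sum_le_sum (g := fun _ => 7) fun i _ => by omega).trans ?_
    simp [show Fintype.card GolayPt = 24 by decide]
  have h1 : (∑ i, wt (x i)) / 256 = ∑ i, (x i).natAbs ^ 2 := by omega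
  have h2 : (∑ i, wt (x i)) % 256 = ∑ i, (x i % 8).toNat := by omega
  refine ⟨?_, ?_, by omega⟩
  · rw [h1]
    push_cast
    exact sum_congr rfl fun i _ => sq_abs (x i)
  · rw [h2]
    push_cast
    rw [sum_int_mod]
    conv_rhs => rw [sum_int_mod]
    refine congrArg (fun z : ℤ => z % 8) (sum_congr rfl fun i _ => ?_)
    omega

theorem fiber_ncard (allowed : ℤ → Bool) {N : ℕ} (hN : N ≤ 64) {m : ℤ} (hm : m = 0 ∨ m = 1)
    {c : Finset GolayPt} (hc : c ∈ codeSets) :
    {x : GolayPt → ℤ | (x ∈ leechLattice ∧ sqNorm x = N ∧ ∀ i, allowed (x i) = true) ∧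
      x none % 2 = m ∧ classOf x = c}.ncard = fiberCount allowed N m c.card := by
  classical
  let f : GolayPt → Finset ℤ := fun i => (opts allowed N (if i ∈ c then m + 2 else m)).toFinset
  have hf : ∀ i, (f i).card ≤ 5 := fun i =>
    (List.toFinset_card_le _).trans (opts_length _ _ _)
  have hP : (∏ i, ∑ a ∈ f i, base ^ wt a) =
      coordPoly (opts allowed N (m + 2)) ^ c.card * coordPoly (opts allowed N m) ^ (24 - c.card) := by
    have : ∀ i, ∑ a ∈ f i, base ^ wt a =
        if i ∈ c then coordPoly (opts allowed N (m + 2)) else coordPoly (opts allowed N m) := fun i => by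
      simp only [f]
      rw [List.sum_toFinset _ (opts_nodup _ _ _)]
      split_ifs <;> rfl
    simp only [this]
    rw [prod_ite, prod_const, prod_const, filter_univ_mem, filter_not, filter_univ_mem,
      card_univ_diff, show Fintype.card GolayPt = 24 by decide]
  have hlist : ∀ (g : ℕ → ℕ) (n : ℕ), ((List.range n).map g).sum = ∑ j ∈ Finset.range n, g j := by
    intro g n
    induction n with
    | zero => simp
    | succ n ih => simp [List.range_succ, Finset.sum_range_succ, ih]
  simp only [fiberCount, ← hP, hlist, coeff_pi f (fun _ => wt) _ hf]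
  rw [← card_biUnion (fun a _ b _ hab => disjoint_filter.2 fun x _ h1 h2 => hab (by
    have := h1.symm.trans h2; omega)), ← Set.ncard_coe_finset]
  refine congrArg Set.ncard (Set.ext fun x => ?_)
  simp only [Set.mem_ofPred_eq, mem_coe, mem_biUnion, Finset.mem_range, mem_filter,
    Fintype.mem_piFinset, f, List.mem_toFinset, mem_opts hN]
  constructor
  · rintro ⟨⟨hx, hnorm, hall⟩, hpar, hcl⟩
    obtain ⟨m', c', y, hsh⟩ := mem_lattice_iff.1 hx
    obtain ⟨e1, e2⟩ := shape_unique hsh
    rw [hpar] at e1; rw [hcl] at e2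
    subst e1; subst e2
    have hb : ∀ i, (x i).natAbs ^ 2 ≤ N := fun i => by
      have h1 : x i ^ 2 ≤ sqNorm x :=
        single_le_sum (f := fun i => x i ^ 2) (fun j _ => sq_nonneg (x j)) (mem_univ i)
      have h2 : ((x i).natAbs ^ 2 : ℤ) ≤ (N : ℤ) := by push_cast; rw [sq_abs]; linarith
      exact_mod_cast h2
    have h8 : ∀ i, (x i).natAbs ≤ 8 := fun i => by have := hb i; nlinarith
    obtain ⟨w1, w2, w3⟩ := wt_sum h8
    obtain ⟨hm', -, hxi, hs⟩ := hsh
    refine ⟨((∑ i, wt (x i)) % 256 - (4 * m).toNat) / 8, by omega, fun i => ⟨?_, hb i, hall i⟩, ?_⟩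
    · have := hxi i
      by_cases hi : i ∈ c <;> simp only [ind, hi, if_true, if_false] at this ⊢ <;> omega
    · omega
  · rintro ⟨j, hj, hopt, hW⟩
    have h8 : ∀ i, (x i).natAbs ≤ 8 := fun i => by nlinarith [(hopt i).2.1]
    obtain ⟨w1, w2, w3⟩ := wt_sum h8
    have hsh : Shape x m c fun i => (x i - m - 2 * ind c i) / 4 := by
      refine ⟨hm, hc, fun i => ?_, by omega⟩
      have := (hopt i).1
      by_cases hi : i ∈ c <;> simp only [ind, hi, if_true, if_false] at this ⊢ <;> omega
    obtain ⟨e1, e2⟩ := shape_unique hsh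
    exact ⟨⟨mem_lattice_iff.2 ⟨_, _, _, hsh⟩, by omega, fun i => (hopt i).2.2⟩, e1, e2⟩

theorem code_weight_ncard : ∀ kn ∈ [(0, 1), (8, 759), (12, 2576), (16, 759), (24, 1)],
    {s : Finset GolayPt | s ∈ codeSets ∧ s.card = kn.1}.ncard = kn.2 := by
  intro kn hkn
  have h : ∀ k n, (codeList.filter fun m => pc m == k).length = n →
      {s : Finset GolayPt | s ∈ codeSets ∧ s.card = k}.ncard = n := fun k n hn =>
    ncard_code_filter' (fun m => pc m == k) _
      (fun s => by simp [mem_supports_iff, card_eq_pc]) n hn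
  refine h _ _ ?_
  revert kn
  decide +kernel

/-- Summing fibres over parities and code words. -/
theorem count_vectors_of (allowed : ℤ → Bool) {N : ℕ} (hN : N ≤ 64) (F : ℤ → ℕ → ℕ)
    (hF : ∀ m : ℤ, (m = 0 ∨ m = 1) → ∀ c ∈ codeSets,
      {x : GolayPt → ℤ | (x ∈ leechLattice ∧ sqNorm x = N ∧ ∀ i, allowed (x i) = true) ∧
        x none % 2 = m ∧ classOf x = c}.ncard = F m c.card) :
    {x : GolayPt → ℤ | x ∈ leechLattice ∧ sqNorm x = N ∧ ∀ i, allowed (x i) = true}.ncard =
      totalOf F := by
  unfold totalOf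
  classical
  set U := {x : GolayPt → ℤ | x ∈ leechLattice ∧ sqNorm x = N ∧ ∀ i, allowed (x i) = true}
  have hfin : U.Finite := by
    refine Set.Finite.subset
      (Fintype.piFinset fun _ : GolayPt => Finset.Icc (-8 : ℤ) 8).finite_toSet ?_
    intro x hx
    rw [mem_coe, Fintype.mem_piFinset]
    intro i
    have h1 : x i ^ 2 ≤ sqNorm x :=
      single_le_sum (f := fun i => x i ^ 2) (fun j _ => sq_nonneg (x j)) (mem_univ i)
    rw [hx.2.1] at h1
    have : (N : ℤ) ≤ 64 := by exact_mod_cast hN
    rw [Finset.mem_Icc]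
    constructor <;> nlinarith
  let C : Finset (Finset GolayPt) := (Set.toFinite codeSets).toFinset
  have hmaps : Set.MapsTo (fun x : GolayPt → ℤ => (x none % 2, classOf x)) (hfin.toFinset : Set _)
      ((({0, 1} : Finset ℤ) ×ˢ C : Finset (ℤ × Finset GolayPt)) : Set _) := by
    intro x hx
    rw [mem_coe, Set.Finite.mem_toFinset] at hx
    obtain ⟨m, c, y, hsh⟩ := mem_lattice_iff.1 hx.1
    obtain ⟨e1, e2⟩ := shape_unique hsh
    simp only [mem_coe, mem_product, mem_insert, mem_singleton, C, Set.Finite.mem_toFinset, e1, e2]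
    exact ⟨hsh.1, hsh.2.1⟩
  rw [Set.ncard_eq_toFinset_card _ hfin, card_eq_sum_card_fiberwise hmaps, sum_product,
    sum_pair (by norm_num), ← sum_add_distrib]
  have hfib : ∀ m : ℤ, (m = 0 ∨ m = 1) → ∀ c ∈ C,
      (hfin.toFinset.filter fun x => (x none % 2, classOf x) = (m, c)).card =
        F m c.card := by
    intro m hm c hc
    rw [← hF m hm c ((Set.Finite.mem_toFinset _).1 hc), ← Set.ncard_coe_finset]
    refine congrArg Set.ncard (Set.ext fun x => ?_)
    simp [U, Prod.ext_iff]
  rw [sum_congr rfl fun c hc => by rw [hfib 0 (Or.inl rfl) c hc, hfib 1 (Or.inr rfl) c hc]]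
  have hmaps2 : Set.MapsTo Finset.card (C : Set (Finset GolayPt))
      (({0, 8, 12, 16, 24} : Finset ℕ) : Set ℕ) := by
    intro c hc
    rw [mem_coe, Set.Finite.mem_toFinset] at hc
    simpa using weights_supports hc
  rw [← sum_fiberwise_of_maps_to hmaps2]
  have hk : ∀ kn ∈ [(0, 1), (8, 759), (12, 2576), (16, 759), (24, 1)],
      ∑ c ∈ C.filter (fun c => c.card = kn.1),
        (F 0 c.card + F 1 c.card) =
      kn.2 * (F 0 kn.1 + F 1 kn.1) := by
    intro kn hkn
    rw [sum_congr rfl fun c hc => by rw [(mem_filter.1 hc).2], sum_const, smul_eq_mul,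
      ← code_weight_ncard kn hkn, ← Set.ncard_coe_finset]
    refine congrArg (· * _) (congrArg Set.ncard (Set.ext fun c => ?_))
    simp [C]
  simp only [List.forall_mem_cons, List.not_mem_nil, false_implies, implies_true, and_true] at hk
  obtain ⟨a, b, c, d, e⟩ := hk
  rw [sum_insert (by simp), sum_insert (by simp), sum_insert (by simp), sum_insert (by simp),
    sum_singleton, a, b, c, d, e]

/-- The number of lattice vectors of norm `N` with all coordinates allowed. -/
theorem count_vectors (allowed : ℤ → Bool) {N : ℕ} (hN : N ≤ 64) :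
    {x : GolayPt → ℤ | x ∈ leechLattice ∧ sqNorm x = N ∧ ∀ i, allowed (x i) = true}.ncard =
      totalCount allowed N := by
  exact count_vectors_of allowed hN (fiberCount allowed N) (fun m hm c hc => fiber_ncard allowed hN hm hc)

end Cfsg.Agent.Leech.Count
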