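import Cfsg.Agent.Lib.Leech.Classes

/-!
Frames of 24 orthogonal norm 8 vectors congruent modulo twice the lattice, and the binary code
attached to one.
-/

set_option autoImplicit false
set_option linter.unusedSectionVars false

namespace Cfsg.Agent.Leech.Frames

open Finset Cfsg.Agent.Leech.Classes

variable {L : Type*} [AddCommGroup L] {b : L → L → ℤ}

theorem exists_half_family (F : Finset L) (h0 : ∀ x ∈ F, -x ≠ x) (hneg : ∀ x ∈ F, -x ∈ F) :
    ∃ T : Finset L, T ⊆ F ∧ (∀ x ∈ T, -x ∉ T) ∧ F.card = 2 * T.card := by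
  classical
  induction F using Finset.strongInduction with
  | H F ih =>
    rcases F.eq_empty_or_nonempty with rfl | ⟨a, ha⟩
    · exact ⟨∅, by simp, by simp, by simp⟩
    have hna := h0 a ha
    have hsub : (F.erase a).erase (-a) ⊂ F :=
      lt_of_le_of_lt (erase_subset _ _) (erase_ssubset ha)
    obtain ⟨T, hT, hT2, hc⟩ := ih _ hsub (fun x hx => h0 x (erase_subset _ _ (erase_subset _ _ hx)))
      (fun x hx => by
        simp only [mem_erase] at hx ⊢
        exact ⟨fun e => hx.2.1 (neg_injective e), fun e => hx.1 (by rw [← e, neg_neg]),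
          hneg x hx.2.2⟩)
    have haT : a ∉ T := fun h => by simpa using (mem_erase.1 (mem_erase.1 (hT h)).2).1
    have hnaT : -a ∉ T := fun h => (mem_erase.1 (hT h)).1 rfl
    refine ⟨insert a T, insert_subset ha (hT.trans ((erase_subset _ _).trans (erase_subset _ _))),
      fun x hx hx' => ?_, ?_⟩
    · rcases mem_insert.1 hx with rfl | hx <;> rcases mem_insert.1 hx' with e | hx'
      · exact hna e
      · exact hnaT hx'
      · exact hnaT (by rw [← e, neg_neg]; exact hx)
      · exact hT2 x hx hx'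
    · rw [card_insert_of_notMem haT]
      have h1 : (F.erase a).card + 1 = F.card := card_erase_add_one ha
      have h2 : ((F.erase a).erase (-a)).card + 1 = (F.erase a).card :=
        card_erase_add_one (mem_erase.2 ⟨hna, hneg a ha⟩)
      omega

/-- A frame. -/
structure Frame (ι : Type*) [Fintype ι] (b : L → L → ℤ) where
  f : ι → L
  self : ∀ i, b (f i) (f i) = 8
  ortho : ∀ i j, i ≠ j → b (f i) (f j) = 0
  congr : ∀ i j, ∃ z, f i - f j = z + z
  card : Fintype.card ι = 24

theorem exists_frame (h : Shells L 1 b) : Nonempty (Frame (Fin 24) b) := by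
  classical
  obtain ⟨x, hx⟩ : ∃ x, b x x = 8 * 1 := by
    have := h.eight
    exact Set.nonempty_of_ncard_ne_zero (s := {x | b x x = 8 * 1}) (by rw [this]; norm_num)
  have h48 := (class_count h).2 x hx
  have hfin : {y | b y y = 8 * 1 ∧ cls x = cls y}.Finite :=
    Set.finite_of_ncard_pos (by rw [h48]; norm_num)
  set F := hfin.toFinset with hF
  have hm : ∀ y, y ∈ F ↔ b y y = 8 * 1 ∧ cls x = cls y := fun y => Set.Finite.mem_toFinset _
  obtain ⟨T, hTF, hT, hc⟩ := exists_half_family F
    (fun y hy e => ne_zero_of_norm h (by norm_num) ((hm y).1 hy).1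
      (h.torsion y (add_eq_zero_iff_eq_neg.2 e.symm)))
    (fun y hy => (hm _).2 ⟨by rw [norm_neg' h]; exact ((hm y).1 hy).1, by
      rw [cls_neg]; exact ((hm y).1 hy).2⟩)
  have hF48 : F.card = 48 := by rw [← h48, hF, ← Set.ncard_eq_toFinset_card _ hfin]
  have hT24 : T.card = 24 := by omega
  have e := (T.equivFinOfCardEq hT24).symm
  have hmem : ∀ i, b (e i : L) (e i) = 8 * 1 ∧ cls x = cls (e i : L) := fun i =>
    (hm _).1 (hTF (e i).2)
  refine ⟨⟨fun i => (e i : L), fun i => by simpa using (hmem i).1, fun i j hij => ?_,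
    fun i j => cls_eq_iff.1 ((hmem i).2.symm.trans (hmem j).2), Fintype.card_fin 24⟩⟩
  obtain ⟨z, hz⟩ := cls_eq_iff.1 ((hmem i).2.symm.trans (hmem j).2)
  rcases congr_short h (hmem i).1.le (hmem j).1.le hz with e' | e' | e'
  · exact absurd (e.injective (Subtype.ext e')).symm hij
  · exact absurd (e' ▸ (e j).2 : -(e i : L) ∈ T) (hT _ (e i).2)
  · exact e'.1

variable {ι : Type*} [Fintype ι] [DecidableEq ι]

theorem form_add_right (h : Shells L 1 b) (x y z : L) : b x (y + z) = b x y + b x z := by
  rw [h.symm, h.add_left, h.symm y, h.symm z]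

/-- The form as a homomorphism. -/
def formHom (h : Shells L 1 b) (y : L) : L →+ ℤ :=
  AddMonoidHom.mk' (fun x => b x y) (fun x z => h.add_left x z y)

namespace Frame

variable (F : Frame ι b)

/-- Coordinates with respect to the frame. -/
def coord (h : Shells L 1 b) : L →+ (ι → ℤ) :=
  AddMonoidHom.pi fun i => formHom h (F.f i)

variable (h : Shells L 1 b)

@[simp] theorem coord_apply (x : L) (i : ι) : F.coord h x i = b x (F.f i) := rfl

theorem coord_f (i : ι) : F.coord h (F.f i) = Pi.single i 8 := by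
  funext j
  by_cases hij : i = j
  · subst hij; simp [F.self]
  · simp [F.ortho i j hij, Ne.symm hij]

theorem f_injective : Function.Injective F.f := fun i j e => by
  by_contra hij
  have := F.ortho i j hij
  rw [e, F.self] at this
  norm_num at this

theorem expansion (x : L) : (8 : ℤ) • x = ∑ i, F.coord h x i • F.f i := by
  classical
  by_contra hne
  set z := (8 : ℤ) • x - ∑ i, F.coord h x i • F.f i with hz
  have hz0 : z ≠ 0 := sub_ne_zero.2 hne
  have hzf : ∀ j, b z (F.f j) = 0 := fun j => by
    show formHom h (F.f j) z = 0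
    rw [hz, map_sub, map_zsmul, map_sum]
    simp only [map_zsmul]
    rw [sum_eq_single j]
    · simp [formHom, F.self]; ring
    · intro i _ hij; simp [formHom, F.ortho i j hij]
    · simp
  have hzT : z ∉ univ.image F.f := fun hm => by
    obtain ⟨j, -, e⟩ := mem_image.1 hm
    have := hzf j
    rw [← e, F.self] at this
    norm_num at this
  have := h.orth (insert z (univ.image F.f))
    (fun w hw => by
      rcases mem_insert.1 hw with rfl | hw
      · exact hz0
      · obtain ⟨j, -, rfl⟩ := mem_image.1 hw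
        exact ne_zero_of_norm h (by norm_num : (0 : ℤ) < 8) (by rw [mul_one]; exact F.self j))
    (fun u hu v hv hne' => by
      rcases mem_insert.1 hu with rfl | hu <;> rcases mem_insert.1 hv with rfl | hv
      · exact absurd rfl hne'
      · obtain ⟨j, -, rfl⟩ := mem_image.1 hv; exact hzf j
      · obtain ⟨j, -, rfl⟩ := mem_image.1 hu; rw [h.symm]; exact hzf j
      · obtain ⟨i, -, rfl⟩ := mem_image.1 hu
        obtain ⟨j, -, rfl⟩ := mem_image.1 hv
        exact F.ortho i j fun e => hne' (e ▸ rfl))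
  rw [card_insert_of_notMem hzT, card_image_of_injective _ F.f_injective, card_univ, F.card]
    at this
  omega

theorem eight_form (x y : L) : 8 * b x y = ∑ i, F.coord h x i * F.coord h y i := by
  have := congrArg (formHom h y) (F.expansion h x)
  rw [map_zsmul, map_sum] at this
  simp only [map_zsmul, smul_eq_mul] at this
  rw [show formHom h y x = b x y from rfl] at this
  rw [this]
  exact sum_congr rfl fun i _ => by rw [F.coord_apply h y i, h.symm y]; rfl

theorem eight_norm (x : L) : 8 * b x x = ∑ i, F.coord h x i ^ 2 := by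
  simp only [sq]; exact F.eight_form h x x

theorem coord_injective : Function.Injective (F.coord h) := by
  rw [injective_iff_map_eq_zero]
  intro x hx
  by_contra h0
  have h1 := F.eight_norm h x
  have h2 := h.min x h0
  simp only [hx, Pi.zero_apply, ne_eq, OfNat.ofNat_ne_zero, not_false_eq_true, zero_pow,
    sum_const_zero] at h1
  omega

include F in
theorem exists_pos : Nonempty ι := Fintype.card_pos_iff.1 (by rw [F.card]; norm_num)

/-- The lattice in coordinates contains all `4 a` with `a` of even sum. -/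
theorem four_even {a : ι → ℤ} (ha : Even (∑ i, a i)) : ∃ x, ∀ i, F.coord h x i = 4 * a i := by
  classical
  obtain ⟨o⟩ := F.exists_pos
  choose z hz using fun i => F.congr i o
  have hzc : ∀ i k, F.coord h (z i) k = (Pi.single i 4 - Pi.single o 4 : ι → ℤ) k := by
    intro i k
    have e := congrFun (congrArg (F.coord h) (hz i)) k
    rw [map_sub, map_add, coord_f, coord_f] at e
    simp only [Pi.add_apply, Pi.sub_apply, Pi.single_apply] at e ⊢
    split_ifs at e ⊢ <;> omega
  obtain ⟨k, hk⟩ := ha
  refine ⟨∑ i, a i • z i + k • F.f o, fun j => ?_⟩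
  rw [map_add, map_sum, Pi.add_apply, Finset.sum_apply]
  simp only [map_zsmul, coord_f, Pi.smul_apply, hzc, smul_eq_mul, Pi.sub_apply, Pi.single_apply,
    mul_sub, sum_sub_distrib, mul_ite, mul_zero, sum_ite_eq, mem_univ, if_true]
  split_ifs with hj
  · subst hj
    rw [← sum_mul, hk]; ring
  · simp; ring

theorem parity (x : L) (i j : ι) : (2 : ℤ) ∣ F.coord h x i - F.coord h x j := by
  obtain ⟨z, hz⟩ := F.congr i j
  refine ⟨b x z, ?_⟩
  rw [sub_eq_iff_eq_add] at hz
  simp only [coord_apply]
  rw [hz, form_add_right h, form_add_right h]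
  ring

/-- `c` lifts to `x` with offsets `y`. -/
def IsLift (x : L) (c : ι → ZMod 2) (y : ι → ℤ) : Prop :=
  ∀ i, F.coord h x i = 2 * ((c i).val : ℤ) + 4 * y i

/-- The code of a frame. -/
def code : Submodule (ZMod 2) (ι → ZMod 2) :=
  AddSubgroup.toZModSubmodule 2
    { carrier := {c | ∃ x y, F.IsLift h x c y}
      zero_mem' := ⟨0, 0, fun i => by simp [form_zero h]⟩
      add_mem' := by
        rintro a a' ⟨x, y, hx⟩ ⟨x', y', hx'⟩
        refine ⟨x + x', fun i => y i + y' i +
          (if a i = 1 ∧ a' i = 1 then 1 else 0), fun i => ?_⟩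
        have key : ∀ p q : ZMod 2, ((p + q).val : ℤ) + 2 * (if p = 1 ∧ q = 1 then 1 else 0) =
            (p.val : ℤ) + (q.val : ℤ) := by decide
        rw [map_add, Pi.add_apply, hx i, hx' i, Pi.add_apply]
        linarith [key (a i) (a' i)]
      neg_mem' := by
        rintro a ⟨x, y, hx⟩
        exact ⟨x, y, by rw [ZModModule.neg_eq_self]; exact hx⟩ }

theorem mem_code {c : ι → ZMod 2} : c ∈ F.code h ↔ ∃ x y, F.IsLift h x c y := Iff.rfl

theorem four_sum {a : ι → ℤ} {x : L} (hx : ∀ i, F.coord h x i = 4 * a i) : Even (∑ i, a i) := by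
  classical
  by_contra hodd
  obtain ⟨o⟩ := F.exists_pos
  obtain ⟨x', hx'⟩ := F.four_even h (a := a - Pi.single o 1) (by
    rw [show ∑ i, (a - Pi.single o 1 : ι → ℤ) i = (∑ i, a i) - 1 by simp [sum_sub_distrib]]
    rw [Int.not_even_iff_odd] at hodd
    exact hodd.sub_odd odd_one)
  have hc : F.coord h (x - x') = Pi.single o 4 := by
    funext i
    rw [map_sub, Pi.sub_apply, hx, hx', Pi.sub_apply, Pi.single_apply, Pi.single_apply]
    split_ifs <;> ring
  have h1 := F.eight_norm h (x - x')
  simp only [hc, Pi.single_apply, ite_pow, ne_eq, OfNat.ofNat_ne_zero, not_false_eq_true, zero_pow,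
    sum_ite_eq', mem_univ, if_true] at h1
  have h2 := h.min (x - x') (by
    intro h0
    rw [h0, map_zero] at hc
    simpa using congrFun hc o)
  omega

theorem lift_parity {c : ι → ZMod 2} {x x' : L} {y y' : ι → ℤ} (hx : F.IsLift h x c y)
    (hx' : F.IsLift h x' c y') : Even (∑ i, y i) ↔ Even (∑ i, y' i) := by
  rw [← Int.even_sub, ← sum_sub_distrib]
  exact F.four_sum h (x := x - x') fun i => by rw [map_sub, Pi.sub_apply, hx i, hx' i]; ring

/-- Support of a word. -/
def supp (c : ι → ZMod 2) : Finset ι := univ.filter fun i => c i = 1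

omit [DecidableEq ι] in
theorem sum_val (c : ι → ZMod 2) : ∑ i, ((c i).val : ℤ) = (supp c).card := by
  classical
  rw [supp, ← sum_boole]
  refine sum_congr rfl fun i _ => ?_
  have : ∀ a : ZMod 2, (a.val : ℤ) = if a = 1 then 1 else 0 := by decide
  exact this (c i)

theorem weight {c : ι → ZMod 2} (hc : c ∈ F.code h) (hc0 : c ≠ 0) :
    4 ∣ (supp c).card ∧ 8 ≤ (supp c).card := by
  classical
  obtain ⟨x, y, hx⟩ := (F.mem_code h).1 hc
  have hz : ∀ p : ZMod 2, p = 0 ∨ p = 1 := by decide
  obtain ⟨o, ho⟩ : ∃ o, c o = 1 := by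
    by_contra hall
    exact hc0 (funext fun i => (hz (c i)).resolve_right fun e => hall ⟨i, e⟩)
  -- a lift with all squares 4 or 0
  obtain ⟨x', hx'⟩ : ∃ x', ∀ i, F.coord h x' i ^ 2 = 4 * ((c i).val : ℤ) := by
    by_cases he : Even (∑ i, y i)
    · obtain ⟨u, hu⟩ := F.four_even h he
      refine ⟨x - u, fun i => ?_⟩
      rw [map_sub, Pi.sub_apply, hx, hu]
      rcases hz (c i) with e | e <;> simp [e, ZMod.val_one, -ZMod.natCast_val]
    · obtain ⟨u, hu⟩ := F.four_even h (a := y + Pi.single o 1) (by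
        simp only [Pi.add_apply, sum_add_distrib, sum_pi_single', mem_univ, if_true]
        exact (Int.not_even_iff_odd.1 he).add_one)
      refine ⟨x - u, fun i => ?_⟩
      rw [map_sub, Pi.sub_apply, hx, hu, Pi.add_apply, Pi.single_apply]
      by_cases hi : i = o
      · subst hi; simp [ho, ZMod.val_one, -ZMod.natCast_val]; ring
      · rcases hz (c i) with e | e <;> simp [e, hi, ZMod.val_one, -ZMod.natCast_val]
  have h1 := F.eight_norm h x'
  simp only [hx', ← mul_sum, sum_val] at h1
  have hne : x' ≠ 0 := fun e => by simpa [e, ho, form_zero h, ZMod.val_one, -ZMod.natCast_val] using hx' o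
  have h2 := h.min x' hne
  obtain ⟨k, hk⟩ := h.even x'
  omega

theorem self_orth {c d : ι → ZMod 2} (hc : c ∈ F.code h) (hd : d ∈ F.code h) :
    ∑ i, c i * d i = 0 := by
  obtain ⟨x, y, hx⟩ := (F.mem_code h).1 hc
  obtain ⟨x', y', hx'⟩ := (F.mem_code h).1 hd
  have h1 := F.eight_form h x x'
  simp only [hx _, hx' _] at h1
  have h2 : (2 : ℤ) ∣ ∑ i, ((c i).val : ℤ) * ((d i).val : ℤ) := by
    refine ⟨b x x' - ∑ i, (((c i).val : ℤ) * y' i + y i * ((d i).val : ℤ) + 2 * (y i * y' i)), ?_⟩
    have : ∑ i, (2 * ((c i).val : ℤ) + 4 * y i) * (2 * ((d i).val : ℤ) + 4 * y' i) =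
        4 * ∑ i, ((c i).val : ℤ) * ((d i).val : ℤ) +
          8 * ∑ i, (((c i).val : ℤ) * y' i + y i * ((d i).val : ℤ) + 2 * (y i * y' i)) := by
      simp only [mul_sum, ← sum_add_distrib]
      exact sum_congr rfl fun i _ => by ring
    omega
  have h3 : ((∑ i, ((c i).val : ℤ) * ((d i).val : ℤ) : ℤ) : ZMod 2) = 0 :=
    (ZMod.intCast_zmod_eq_zero_iff_dvd _ 2).2 h2
  push_cast at h3
  simpa [ZMod.natCast_zmod_val] using h3

end Frame

end Cfsg.Agent.Leech.Frames
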