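import Cfsg.Agent.Lib.Leech.Basic

/-!
Generation of the lattice by its vectors with sum of squares 32, and its index in `ℤ^24`.
-/

set_option autoImplicit false

namespace Cfsg.Agent.Leech.Gen

open Cfsg Cfsg.Agent.Golay.Basic Cfsg.Agent.Golay.Design Cfsg.Agent.Leech.Basic Finset

/-- The vectors of sum of squares 32. -/
def minVecs : Set (GolayPt → ℤ) := {x | x ∈ leechLattice ∧ sqNorm x = 32}

/-- Twice the indicator of a set. -/
def twoInd (c : Finset GolayPt) : GolayPt → ℤ := fun i => 2 * ind c i

/-- The vector with a `-3` at the extra point and ones elsewhere. -/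
def oddVec : GolayPt → ℤ := fun i => if i = none then -3 else 1

theorem oddVec_mem : oddVec ∈ minVecs :=
  ⟨mem_lattice_iff.2 ⟨1, ∅, fun i => if i = none then -1 else 0, Or.inr rfl, empty_mem,
    fun i => by by_cases h : i = none <;> simp [oddVec, ind, h], by decide +kernel⟩, by decide +kernel⟩

theorem pair_mem {a b : GolayPt} (hab : a ≠ b) (s t : ℤ) (hs : s = 1 ∨ s = -1) (ht : t = 1 ∨ t = -1) :
    (Pi.single a (4 * s) + Pi.single b (4 * t) : GolayPt → ℤ) ∈ minVecs := by
  refine ⟨mem_lattice_iff.2 ⟨0, ∅, Pi.single a s + Pi.single b t, Or.inl rfl, empty_mem, fun i => ?_, ?_⟩, ?_⟩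
  · simp only [Pi.add_apply, Pi.single_apply]
    split_ifs <;> simp [ind] <;> omega
  · simp only [Pi.add_apply, sum_add_distrib, sum_pi_single', mem_univ, if_true]
    omega
  · have h : ∀ i, (Pi.single a (4 * s) + Pi.single b (4 * t) : GolayPt → ℤ) i ^ 2 =
        (Pi.single a (16 : ℤ) + Pi.single b 16 : GolayPt → ℤ) i := by
      intro i
      simp only [Pi.add_apply, Pi.single_apply]
      rcases hs with rfl | rfl <;> rcases ht with rfl | rfl <;> split_ifs with h1 h2 <;>
        first
          | exact absurd (h1.symm.trans h2) hab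
          | norm_num
    simp only [sqNorm]
    rw [sum_congr rfl (fun i _ => h i)]
    simp [sum_add_distrib]

theorem twoInd_mem {o : Finset GolayPt} (ho : o ∈ octads) : twoInd o ∈ minVecs := by
  refine ⟨mem_lattice_iff.2 ⟨0, o, 0, Or.inl rfl, ho.1, fun i => by simp [twoInd], ?_⟩, ?_⟩
  · simp only [twoInd, ← mul_sum, sum_ind, octad_card ho]; norm_num
  · have h : ∀ i, twoInd o i ^ 2 = 4 * ind o i := fun i => by
      by_cases hi : i ∈ o <;> simp [twoInd, ind, hi]
    simp only [sqNorm, h, ← mul_sum, sum_ind, octad_card ho]; norm_num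

theorem four_even_mem {y : GolayPt → ℤ} (hy : (2 : ℤ) ∣ ∑ i, y i) :
    (fun i => 4 * y i) ∈ AddSubgroup.closure minVecs := by
  classical
  let D : GolayPt → GolayPt → ℤ := fun i => Pi.single i 4 - Pi.single none 4
  have hD : ∀ i, D i ∈ AddSubgroup.closure minVecs := by
    intro i
    by_cases hi : i = none
    · rw [show D i = 0 from by simp [D, hi]]; exact zero_mem _
    · refine AddSubgroup.subset_closure ?_
      have := pair_mem hi 1 (-1) (Or.inl rfl) (Or.inr rfl)
      have e : (Pi.single i (4 * 1) + Pi.single none (4 * (-1)) : GolayPt → ℤ) = D i := by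
        rw [mul_one, show (4 : ℤ) * (-1) = -4 by norm_num, Pi.single_neg, ← sub_eq_add_neg]
      rwa [e] at this
  have h8 : (Pi.single none 8 : GolayPt → ℤ) ∈ AddSubgroup.closure minVecs := by
    have hne : (none : GolayPt) ≠ some 0 := by simp
    have h1 := AddSubgroup.subset_closure (k := minVecs) (pair_mem hne 1 1 (Or.inl rfl) (Or.inl rfl))
    have h2 := AddSubgroup.subset_closure (k := minVecs) (pair_mem hne 1 (-1) (Or.inl rfl) (Or.inr rfl))
    convert add_mem h1 h2 using 1
    funext i
    by_cases hn : i = none <;> by_cases h0 : i = some 0 <;> simp [Pi.single_apply, hn, h0]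
  obtain ⟨k, hk⟩ := hy
  have : (fun i => 4 * y i) = ∑ i, y i • D i + k • (Pi.single none 8 : GolayPt → ℤ) := by
    funext j
    simp only [Pi.add_apply, Finset.sum_apply, Pi.smul_apply, smul_eq_mul, D, Pi.sub_apply,
      Pi.single_apply, mul_sub, sum_sub_distrib, mul_ite, mul_zero, sum_ite_eq, mem_univ, if_true]
    split_ifs with h
    · rw [← sum_mul, hk]; ring
    · simp; ring
  rw [this]
  exact add_mem (sum_mem fun i _ => zsmul_mem (hD i) _) (zsmul_mem h8 _)

theorem twoInd_span : ∀ (L : List ℕ), (∀ b ∈ L, maskSet b ∈ octads) → ∀ a,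
    maskSet (enc L a) ∈ codeSets ∧ ∃ y : GolayPt → ℤ,
    (2 : ℤ) ∣ ∑ i, y i ∧ (fun i => twoInd (maskSet (enc L a)) i + 4 * y i) ∈ AddSubgroup.closure minVecs
  | [], _, a => by
    have he : maskSet (enc [] a) = ∅ := by simp only [enc]; decide
    rw [he]
    refine ⟨empty_mem, 0, by simp, ?_⟩
    have : (fun i => twoInd ∅ i + 4 * (0 : GolayPt → ℤ) i) = 0 := by
      funext i
      simp [twoInd, ind]
    rw [this]; exact zero_mem _
  | c :: cs, h, a => by
    obtain ⟨hcode, y, hy, hmem⟩ := twoInd_span cs (fun b hb => h b (List.mem_cons_of_mem _ hb)) (a / 2)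
    simp only [enc]
    rcases Nat.mod_two_eq_zero_or_one a with ha | ha
    · rw [ha, zero_mul, Nat.zero_xor]; exact ⟨hcode, y, hy, hmem⟩
    rw [ha, one_mul, mask_maskSet_xor]
    set d := maskSet (enc cs (a / 2))
    have ho := h c List.mem_cons_self
    refine ⟨symmDiff_mem_supports ho.1 hcode, fun i => y i + ind (maskSet c ∩ d) i, ?_, ?_⟩
    · rw [sum_add_distrib, sum_ind]
      have := two_dvd_inter ho.1 hcode
      omega
    · have e : (fun i => twoInd (symmDiff (maskSet c) d) i + 4 * (y i + ind (maskSet c ∩ d) i)) =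
          twoInd (maskSet c) + fun i => twoInd d i + 4 * y i := by
        funext i
        have := ind_add (maskSet c) d i
        simp only [Pi.add_apply, twoInd]
        omega
      rw [e]
      exact add_mem (AddSubgroup.subset_closure (twoInd_mem ho)) hmem

theorem closure_minVecs : AddSubgroup.closure minVecs = leechLattice := by
  refine le_antisymm ((AddSubgroup.closure_le _).2 fun x hx => hx.1) ?_
  have hbasis : ∀ b ∈ basisMasks, maskSet b ∈ octads := fun b hb =>
    mem_octads_iff.2 (by revert b; decide +kernel)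
  have even : ∀ x c y, Shape x 0 c y → x ∈ AddSubgroup.closure minVecs := by
    rintro x c y ⟨-, hc, hx, hs⟩
    have hm := mem_supports_iff.1 hc
    simp only [isCode, beq_iff_eq] at hm
    obtain ⟨-, y', hy', hmem⟩ := twoInd_span basisMasks hbasis (mask c)
    rw [hm, maskSet_mask] at hmem
    have hy : (2 : ℤ) ∣ ∑ i, y i := by
      simp only [hx, sum_add_distrib, ← mul_sum, sum_ind, sum_const_zero] at hs
      have := four_dvd_card hc
      omega
    have h4 := four_even_mem (y := fun i => y i - y' i) (by rw [sum_sub_distrib]; omega)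
    have e : x = (fun i => twoInd c i + 4 * y' i) + fun i => 4 * (y i - y' i) := by
      funext i
      simp only [Pi.add_apply, twoInd, hx i]
      omega
    rw [e]; exact add_mem hmem h4
  intro x hx
  have hx' := hx
  obtain ⟨m, c, y, hsh⟩ := mem_lattice_iff.1 hx
  rcases hsh.1 with rfl | rfl
  · exact even x c y hsh
  · have hsub : x - oddVec ∈ leechLattice := sub_mem hx' oddVec_mem.1
    obtain ⟨m', c', y', hsh'⟩ := mem_lattice_iff.1 hsub
    have h1 := hsh.2.2.1 (some 0)
    have h2 := hsh'.2.2.1 (some 0)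
    rw [Pi.sub_apply, show oddVec (some 0) = 1 from rfl] at h2
    have hm' : m' = 0 := by
      have := hsh'.1
      omega
    subst hm'
    have := add_mem (even _ _ _ hsh') (AddSubgroup.subset_closure oddVec_mem)
    rwa [sub_add_cancel] at this

end Cfsg.Agent.Leech.Gen
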